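import Cfsg.Agent.OreChev.TwistedCell
import Cfsg.Agent.Chev.TwistedD4
import Cfsg.Agent.Chev.D4TwTorus

/-!
`³D₄(q)`: the two rank one groups, the big cell and moving its torus part.
-/

set_option autoImplicit false
set_option linter.style.haveILetI false

namespace CfsgLib.OreD4

open Cfsg.Lie Matrix CfsgLib.Chev CfsgLib.Chev.Tab
open scoped MatrixGroups

/-- A homomorphism of `SL₂` maps into a subgroup containing both unipotent images. -/
theorem sl2_hom_mem {F M : Type*} [Field F] [Group M] (φ : SL(2, F) →* M) {H : Subgroup M}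
    (hX : ∀ t, φ (RankOne.eX t) ∈ H) (hY : ∀ t, φ (eL t) ∈ H) (g : SL(2, F)) : φ g ∈ H := by
  have key : ∀ g : SL(2, F), g 1 0 ≠ 0 → φ g ∈ H := by
    intro g hg
    obtain ⟨p, q, L, hL, e⟩ := sl2_ulu g hg
    rw [e, show L = eL (g 1 0) from Subtype.ext hL, map_mul, map_mul]
    exact mul_mem (mul_mem (hX _) (hY _)) (hX _)
  by_cases hg : g 1 0 = 0
  · have h1 : ((eL 1 * g : SL(2, F)) : Matrix (Fin 2) (Fin 2) F) 1 0 ≠ 0 := by
      have hdet := RankOne.det_eq g
      rw [Matrix.SpecialLinearGroup.coe_mul, coe_eL]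
      simp [Matrix.mul_apply, Fin.sum_univ_two, hg]
      intro h
      simp [h, hg] at hdet
    have h2 := mul_mem (inv_mem (hY 1)) (key _ h1)
    rwa [map_mul, inv_mul_cancel_left] at h2
  · exact key g hg

/-- The word of the longest element. -/
def L0 : List (Fin 2) := [0, 1, 0, 1, 0, 1]

theorem chkL0 : ∀ s : Fin chevD4.nroots,
    D4Data.tab.wordT (flatW D4Tw.orbs (L0.map Fin.val)) s.val = negR chevD4 s.val := by
  decide +kernel

/-- The rank is not zero. -/
local instance neZeroRank : NeZero chevD4.rank := ⟨by decide⟩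

/-- There are orbits. -/
local instance neZeroOrbs : NeZero D4Tw.orbs.length := ⟨by decide⟩

variable {K : Type*} [Field K] [Fintype K] {q : ℕ} (C : D4Tw.Ctx K q)
include C

/-- The word of the longest element, for the twisted group. -/
def L (C : D4Tw.Ctx K q) : List (Fin C.Z.nJ) := L0

/-- Its representative. -/
noncomputable def n0 (C : D4Tw.Ctx K q) : GL chevD4.Idx K := C.Z.nT (L C)

theorem pwT_L (s : Fin chevD4.nroots) : C.Z.pwT (L C) s = negF s := by
  refine Fin.ext ?_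
  rw [show C.Z.pwT (L C) = good_D4.full.pw ((L C).flatMap C.Z.word) from rfl, good_D4.pw_apply,
    ← C.Z.flatW_eq C.A.hasData]
  exact chkL0 s

theorem L_neg (s : Fin chevD4.nroots) (hs : IsPos chevD4 s.val) :
    ¬ IsPos chevD4 (C.Z.pwT (L C) s).val := by
  rw [pwT_L, good_D4.pos_negF, not_not]; exact hs

theorem n0_act : good_D4.full.RootAct (n0 C) (negPerm chevD4) := by
  have e : negPerm chevD4 = C.Z.pwT (L C) := Equiv.ext fun s => (pwT_L C s).symm
  rw [e]
  exact C.Z.nT_act _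

theorem n0_mem : n0 C ∈ C.Z.G1 := C.Z.nT_mem _

theorem n0_mono : n0 C ∈ chevD4.monomialSubgroup K := C.Z.nT_mono _

theorem two_le : 2 ≤ q := C.hq.one_lt

/-- The field with `q` elements. -/
abbrev Kq (C : D4Tw.Ctx K q) : Subfield K := C.φ.eqLocusField (RingHom.id K)

theorem mem_Kq {x : K} : x ∈ Kq C ↔ x ^ q = x := by
  rw [← C.hφ]; rfl

theorem card_Kq : Nat.card (Kq C) = q :=
  (Nat.card_congr (Equiv.subtypeEquivRight fun _ => mem_Kq C)).trans (card_fixed C.hq C.hK)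

/-! ### The short rank one group -/

/-- The rank one hom of a fundamental root. -/
noncomputable abbrev rk (i : Fin chevD4.rank) : SL(2, K) →* GL chevD4.Idx K := (good_D4.rankOne K i).hom

/-- The Frobenius on `SL₂`. -/
def fr (C : D4Tw.Ctx K q) : SL(2, K) →* SL(2, K) := Matrix.SpecialLinearGroup.map C.φ

omit C in
theorem rk_mem_K1 (i : Fin chevD4.rank) (g : SL(2, K)) : rk i g ∈ good_D4.K1 K i :=
  good_D4.hom_mem_of_x i (fun t => good_D4.x_mem_K1 i t) (fun t => good_D4.xneg_mem_K1 i t) g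

theorem rk_comm {i j : Fin chevD4.rank} (hi : i ≠ 1) (hj : j ≠ 1) (hne : i ≠ j) (a b : SL(2, K)) :
    Commute (rk i a) (rk j b) := by
  have hm : ∀ i : Fin chevD4.rank, i ≠ 1 → i ∈ good_D4.oJ D4Tw.orbs 1 := by
    intro i hi
    fin_cases i <;> first | exact absurd rfl hi | decide
  exact C.A.comm 1 i (hm i hi) j (hm j hj) hne _ (rk_mem_K1 i a) _ (rk_mem_K1 j b)

/-- The rank one group of the short orbit. -/
noncomputable def phiS (C : D4Tw.Ctx K q) : SL(2, K) →* GL chevD4.Idx K where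
  toFun g := rk 0 g * (rk 2 (fr C g) * rk 3 (fr C (fr C g)))
  map_one' := by simp
  map_mul' g h := by
    simp only [map_mul]
    have a := rk_comm C (i := 2) (j := 0) (by decide) (by decide) (by decide) (fr C g) h
    have b := rk_comm C (i := 3) (j := 0) (by decide) (by decide) (by decide) (fr C (fr C g)) h
    have c := rk_comm C (i := 3) (j := 2) (by decide) (by decide) (by decide) (fr C (fr C g))
      (fr C h)
    calc rk 0 g * rk 0 h * (rk 2 (fr C g) * rk 2 (fr C h) *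
          (rk 3 (fr C (fr C g)) * rk 3 (fr C (fr C h))))
        = rk 0 g * (rk 0 h * rk 2 (fr C g)) * (rk 2 (fr C h) * rk 3 (fr C (fr C g))) *
            rk 3 (fr C (fr C h)) := by group
      _ = rk 0 g * (rk 2 (fr C g) * rk 0 h) * (rk 3 (fr C (fr C g)) * rk 2 (fr C h)) *
            rk 3 (fr C (fr C h)) := by rw [a.eq, c.eq]
      _ = rk 0 g * rk 2 (fr C g) * (rk 0 h * rk 3 (fr C (fr C g))) * rk 2 (fr C h) *
            rk 3 (fr C (fr C h)) := by group
      _ = _ := by rw [← b.eq]; group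

theorem phiS_apply (g : SL(2, K)) :
    phiS C g = rk 0 g * (rk 2 (fr C g) * rk 3 (fr C (fr C g))) := rfl

theorem fr_eX (t : K) : fr C (RankOne.eX t) = RankOne.eX (t ^ q) := by
  ext i j
  fin_cases i <;> fin_cases j <;> simp [fr, RankOne.coe_eX, ← C.hφ]

theorem fr_eL (t : K) : fr C (eL t) = eL (t ^ q) := by
  ext i j
  fin_cases i <;> fin_cases j <;> simp [fr, coe_eL, ← C.hφ]

theorem fr_eH (t : Kˣ) : fr C (RankOne.eH t) = RankOne.eH (t ^ q) := by
  ext i j
  fin_cases i <;> fin_cases j <;> simp [fr, RankOne.coe_eH, ← C.hφ]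

/-- The parameters of the short orbit. -/
def tupS (q : ℕ) (t : K) : Fin 4 → K := ![t, 0, t ^ q, (t ^ q) ^ q]

theorem phiS_eX (t : K) :
    phiS C (RankOne.eX t) = good_D4.PX (good_D4.oJ D4Tw.orbs 1) (tupS q t) := by
  rw [phiS_apply, fr_eX, fr_eX]
  simp only [rk, good_D4.hom_eX]
  exact (mul_one _).symm.trans (by simp only [mul_assoc]; rfl)

theorem phiS_eL (t : K) :
    phiS C (eL t) = good_D4.PN (good_D4.oJ D4Tw.orbs 1) (tupS q t) := by
  rw [phiS_apply, fr_eL, fr_eL]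
  simp only [rk, good_D4.hom_eL]
  exact (mul_one _).symm.trans (by simp only [mul_assoc]; rfl)

theorem phiS_mem (g : SL(2, K)) : phiS C g ∈ C.Z.G1 :=
  sl2_hom_mem _ (fun t => by rw [phiS_eX]; exact C.A.PX_mem (C.tup_three (J := 1) rfl t))
    (fun t => by rw [phiS_eL]; exact C.A.PN_mem (C.tup_three (J := 1) rfl t)) g

/-! ### The long rank one group -/

/-- The rank one group of the long orbit. -/
noncomputable def phiL (C : D4Tw.Ctx K q) : SL(2, Kq C) →* GL chevD4.Idx K :=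
  (rk 1).comp (Matrix.SpecialLinearGroup.map (Kq C).subtype)

theorem map_eX (t : Kq C) : Matrix.SpecialLinearGroup.map (Kq C).subtype (RankOne.eX t) =
    RankOne.eX (t : K) := by
  ext i j
  fin_cases i <;> fin_cases j <;> simp [RankOne.coe_eX]

theorem map_eL (t : Kq C) : Matrix.SpecialLinearGroup.map (Kq C).subtype (eL t) = eL (t : K) := by
  ext i j
  fin_cases i <;> fin_cases j <;> simp [coe_eL]

theorem map_eH (t : (Kq C)ˣ) : Matrix.SpecialLinearGroup.map (Kq C).subtype (RankOne.eH t) =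
    RankOne.eH (Units.map (Kq C).subtype.toMonoidHom t) := by
  ext i j
  fin_cases i <;> fin_cases j <;> simp [RankOne.coe_eH]

theorem phiL_eX (t : Kq C) :
    phiL C (RankOne.eX t) = good_D4.PX (good_D4.oJ D4Tw.orbs 0) fun _ => (t : K) := by
  rw [phiL, MonoidHom.comp_apply, map_eX]
  simp only [rk, good_D4.hom_eX]
  exact (mul_one _).symm

theorem phiL_eL (t : Kq C) :
    phiL C (eL t) = good_D4.PN (good_D4.oJ D4Tw.orbs 0) fun _ => (t : K) := by
  rw [phiL, MonoidHom.comp_apply, map_eL]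
  simp only [rk, good_D4.hom_eL]
  exact (mul_one _).symm

theorem tup_one_orb {t : K} (ht : t ^ q = t) : C.A.Tup 0 fun _ => t := fun i _ => by
  rw [C.f_simp, ht]

theorem phiL_mem (g : SL(2, Kq C)) : phiL C g ∈ C.Z.G1 :=
  sl2_hom_mem _
    (fun t => by rw [phiL_eX]; exact C.A.PX_mem (tup_one_orb C ((mem_Kq C).mp t.2)))
    (fun t => by rw [phiL_eL]; exact C.A.PN_mem (tup_one_orb C ((mem_Kq C).mp t.2))) g

/-! ### Torus elements -/

/-- The parameters of a torus element. -/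
def tc (q : ℕ) (A B : Kˣ) : Fin chevD4.rank → Kˣ := (![A, B, A ^ q, (A ^ q) ^ q] : Fin 4 → Kˣ)

omit C in
theorem tc_mul (A B A' B' : Kˣ) : tc q (A * A') (B * B') = tc q A B * tc q A' B' :=
  D4Tw.ext4 rfl rfl (mul_pow A A' q)
    (by
      show ((A * A') ^ q) ^ q = (A ^ q) ^ q * (A' ^ q) ^ q
      rw [mul_pow, mul_pow])

omit C in
theorem tc_one : tc q (1 : Kˣ) 1 = 1 :=
  D4Tw.ext4 rfl rfl (one_pow q) (by show ((1 : Kˣ) ^ q) ^ q = 1; rw [one_pow, one_pow])

omit C in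
theorem tc_inv (A B : Kˣ) : tc q A⁻¹ B⁻¹ = (tc q A B)⁻¹ := by
  refine eq_inv_of_mul_eq_one_left ?_
  rw [← tc_mul, inv_mul_cancel, inv_mul_cancel, tc_one]

theorem tc_mem (A : Kˣ) {B : Kˣ} (hB : B ^ q = B) : tc q A B ∈ C.A.Cσ :=
  C.mem_Cσ.mpr fun i => by
    fin_cases i
    · rfl
    · exact hB.symm
    · rfl
    · exact (C.units_pow_qqq A).symm

/-- A torus element. -/
noncomputable def tor (q : ℕ) (A B : Kˣ) : GL chevD4.Idx K := D4Data.tab.hT K (tc q A B)

theorem exists_tor {h : GL chevD4.Idx K} (hh : h ∈ C.Z.H0) :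
    ∃ A B : Kˣ, B ^ q = B ∧ h = tor q A B := by
  obtain ⟨c, hc, rfl⟩ := (show h ∈ C.A.torus from hh)
  have hc' := C.mem_Cσ.mp hc
  refine ⟨c (0 : Fin 4), c (1 : Fin 4), (hc' 1).symm, congrArg _ (D4Tw.ext4 rfl rfl (hc' 0) ?_)⟩
  show c (3 : Fin 4) = (c (0 : Fin 4) ^ q) ^ q
  rw [← hc' 0]
  exact hc' 2

omit C in
theorem tor_mul (A B A' B' : Kˣ) : tor q (A * A') (B * B') = tor q A B * tor q A' B' := by
  rw [tor, tor, tor, tc_mul, map_mul]

omit C in
theorem tor_inv (A B : Kˣ) : tor q A⁻¹ B⁻¹ = (tor q A B)⁻¹ := by rw [tor, tor, tc_inv, map_inv]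

omit C in
theorem tor_one : tor q (1 : Kˣ) 1 = 1 := by rw [tor, tc_one, map_one]

theorem tor_mem (A : Kˣ) {B : Kˣ} (hB : B ^ q = B) : tor q A B ∈ C.Z.H0 :=
  C.A.hT_mem_torus (tc_mem C A hB)

/-- The value of the long fundamental root. -/
def chiL (q : ℕ) (A B : Kˣ) : Kˣ := B ^ 2 * (A * A ^ q * (A ^ q) ^ q)⁻¹

/-- The value of the short fundamental root. -/
def chiS (A B : Kˣ) : Kˣ := A ^ 2 * B⁻¹

theorem chiL_fixed (A : Kˣ) {B : Kˣ} (hB : B ^ q = B) : chiL q A B ^ q = chiL q A B := by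
  unfold chiL
  rw [mul_pow, inv_pow, mul_pow, mul_pow, C.units_pow_qqq, ← pow_mul, mul_comm 2 q, pow_mul, hB]
  congr 2
  ac_rfl

omit C in
theorem chi_tc (A B : Kˣ) : D4Data.tab.chi (F := K) (chevD4.simple (1 : Fin chevD4.rank)) (tc q A B) =
      chiL q A B ∧
    D4Data.tab.chi (F := K) (chevD4.simple (0 : Fin chevD4.rank)) (tc q A B) = chiS A B ∧
    D4Data.tab.chi (F := K) (chevD4.simple (2 : Fin chevD4.rank)) (tc q A B) = (A ^ q) ^ 2 * B⁻¹ ∧
    D4Data.tab.chi (F := K) (chevD4.simple (3 : Fin chevD4.rank)) (tc q A B) = ((A ^ q) ^ q) ^ 2 * B⁻¹ := by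
  have hs : chevD4.simple (1 : Fin chevD4.rank) = 14 ∧ chevD4.simple (0 : Fin chevD4.rank) = 18 ∧
      chevD4.simple (2 : Fin chevD4.rank) = 13 ∧ chevD4.simple (3 : Fin chevD4.rank) = 12 := by decide +kernel
  rw [hs.1, hs.2.1, hs.2.2.1, hs.2.2.2, D4Tw.chi14, (D4Tw.chi_simple _).1,
    (D4Tw.chi_simple _).2.1, (D4Tw.chi_simple _).2.2]
  exact ⟨rfl, rfl, rfl, rfl⟩

theorem tor_conj_phiS (A : Kˣ) {B : Kˣ} (hB : B ^ q = B) (g : SL(2, K)) :
    tor q A B * phiS C g * (tor q A B)⁻¹ = phiS C (scaleSL (chiS A B) g) := by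
  have hfr : ∀ (z : Kˣ) (g : SL(2, K)), fr C (scaleSL z g) = scaleSL (z ^ q) (fr C g) := by
    intro z g
    ext i j
    fin_cases i <;> fin_cases j <;> simp [fr, coe_scaleSL, ← C.hφ]
  have h2 : chiS A B ^ q = (A ^ q) ^ 2 * B⁻¹ := by
    unfold chiS
    rw [mul_pow, inv_pow, hB, ← pow_mul, mul_comm 2 q, pow_mul]
  have h3 : (chiS A B ^ q) ^ q = ((A ^ q) ^ q) ^ 2 * B⁻¹ := by
    rw [h2, mul_pow, inv_pow, hB, ← pow_mul (A ^ q), mul_comm 2 q, pow_mul]
  obtain ⟨-, e0, e2, e3⟩ := chi_tc (q := q) A B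
  have k0 := good_D4.hT_conj_hom (0 : Fin chevD4.rank) (tc q A B) g
  have k2 := good_D4.hT_conj_hom (2 : Fin chevD4.rank) (tc q A B) (fr C g)
  have k3 := good_D4.hT_conj_hom (3 : Fin chevD4.rank) (tc q A B) (fr C (fr C g))
  rw [e0] at k0
  rw [e2, ← h2] at k2
  rw [e3, ← h3] at k3
  rw [phiS_apply, phiS_apply, hfr, hfr]
  simp only [rk, tor] at k0 k2 k3 ⊢
  rw [← k0, ← k2, ← k3]
  group

theorem tor_conj_phiL (A : Kˣ) {B : Kˣ} (χ : (Kq C)ˣ) (hχ : ((χ : Kq C) : K) = chiL q A B)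
    (g : SL(2, Kq C)) :
    tor q A B * phiL C g * (tor q A B)⁻¹ = phiL C (scaleSL χ g) := by
  have k := good_D4.hT_conj_hom (1 : Fin chevD4.rank) (tc q A B)
    (Matrix.SpecialLinearGroup.map (Kq C).subtype g)
  rw [(chi_tc (q := q) A B).1] at k
  simp only [phiL, rk, tor, MonoidHom.comp_apply] at k ⊢
  rw [k]
  congr 1
  ext i j
  fin_cases i <;> fin_cases j <;> simp [coe_scaleSL, hχ]

theorem phiS_eH (t : Kˣ) : phiS C (RankOne.eH t) = tor q t 1 := by
  rw [phiS_apply, fr_eH, fr_eH]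
  simp only [rk, good_D4.hom_eH, tor]
  rw [← map_mul, ← map_mul]
  congr 1
  funext i
  fin_cases i <;> simp [tc, Pi.mulSingle_apply] <;> first | rfl | (intro h; exact absurd h (by decide))

theorem phiL_eH (t : (Kq C)ˣ) :
    phiL C (RankOne.eH t) = tor q 1 (Units.map (Kq C).subtype.toMonoidHom t) := by
  rw [phiL, MonoidHom.comp_apply, map_eH]
  simp only [rk, good_D4.hom_eH, tor]
  congr 1
  funext i
  fin_cases i <;> simp [tc, Pi.mulSingle_apply] <;> first | rfl | (intro h; exact absurd h (by decide))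

end CfsgLib.OreD4
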