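import Cfsg.Agent.OreD4.Basic

/-!
`³D₄(q)`: moving the torus part of a cell.
-/

set_option autoImplicit false
set_option linter.style.haveILetI false

namespace CfsgLib.OreD4

open Cfsg.Lie Matrix CfsgLib.Chev CfsgLib.Chev.Tab
open scoped MatrixGroups

/-- The rank is not zero. -/
local instance neZeroRank' : NeZero chevD4.rank := ⟨by decide⟩

/-- There are orbits. -/
local instance neZeroOrbs' : NeZero D4Tw.orbs.length := ⟨by decide⟩

variable {K : Type*} [Field K] [Fintype K] {q : ℕ} (C : D4Tw.Ctx K q)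

/-- The long orbit. -/
def JL (C : D4Tw.Ctx K q) : Fin C.Z.nJ := (0 : Fin D4Tw.orbs.length)

/-- The short orbit. -/
def JS (C : D4Tw.Ctx K q) : Fin C.Z.nJ := (1 : Fin D4Tw.orbs.length)

/-- Conjugate to `v h u`. -/
def Cell (C : D4Tw.Ctx K q) (g : GL chevD4.Idx K) (A B : Kˣ) : Prop :=
  C.Z.CellT (L C) g (tor q A B)

/-- A product of two conjugates of `x`. -/
def Cover (C : D4Tw.Ctx K q) (x g : GL chevD4.Idx K) : Prop :=
  ∃ u ∈ C.Z.G1, ∃ v ∈ C.Z.G1, g = u * x * u⁻¹ * (v * x * v⁻¹)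

include C

theorem Cover.of_conj {x g y : GL chevD4.Idx K} (hy : y ∈ C.Z.G1)
    (h : Cover C x (y * g * y⁻¹)) : Cover C x g := by
  obtain ⟨u, hu, v, hv, e⟩ := h
  refine ⟨y⁻¹ * u, mul_mem (inv_mem hy) hu, y⁻¹ * v, mul_mem (inv_mem hy) hv, ?_⟩
  calc g = y⁻¹ * (y * g * y⁻¹) * y := by group
    _ = _ := by rw [e]; group

/-- Every element is conjugate into the big cell. -/
theorem exists_cell {g : GL chevD4.Idx K} (hg : g ∈ C.Z.G1) :
    ∃ A B : Kˣ, B ^ q = B ∧ Cell C g A B := by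
  obtain ⟨h, hh, hc⟩ := C.Z.exists_cellT (L_neg C) (g := g) (by
    rw [C.card_group, C.card_U1, C.card_torus]
    obtain ⟨r, hr⟩ : ∃ r, q = r + 2 := ⟨q - 2, by have := two_le C; omega⟩
    subst hr
    rw [show r + 2 - 1 = r + 1 by omega]
    obtain ⟨a, ha⟩ : ∃ a, (r + 2) ^ 2 = a + 1 := ⟨(r + 2) ^ 2 - 1, by
      have := Nat.one_le_pow 2 (r + 2) (by omega); omega⟩
    obtain ⟨b, hb⟩ : ∃ b, (r + 2) ^ 6 = b + 1 := ⟨(r + 2) ^ 6 - 1, by
      have := Nat.one_le_pow 6 (r + 2) (by omega); omega⟩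
    rw [ha, hb, Nat.add_sub_cancel, Nat.add_sub_cancel]
    have ha' : a = (r + 1) * (r + 3) := by nlinarith
    have hb' : b = (r + 1) * ((r + 2) ^ 2 + (r + 2) + 1) * ((r + 2) ^ 3 + 1) := by nlinarith
    rw [ha', hb']
    set Q := r + 2 with hQ
    have key : (r + 3) * (Q ^ 3 + 1) * (Q ^ 8 + Q ^ 4 + 1) < 2 * Q ^ 12 := by
      have h2 : 2 ≤ Q := by omega
      have e : r + 3 = Q + 1 := by omega
      rw [e]
      ring_nf
      have p : ∀ i j : ℕ, i ≤ j → Q ^ i ≤ Q ^ j := fun i j h => Nat.pow_le_pow_right (by omega) h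
      have d : ∀ i : ℕ, 2 * Q ^ i ≤ Q ^ (i + 1) := fun i => by rw [pow_succ, mul_comm 2]; exact Nat.mul_le_mul_left _ h2
      have s11 : 2 * Q ^ 11 ≤ Q ^ 12 := d 11
      have s10 : 2 * Q ^ 10 ≤ Q ^ 11 := d 10
      have s9 : 2 * Q ^ 9 ≤ Q ^ 10 := d 9
      have s8 : 2 * Q ^ 8 ≤ Q ^ 9 := d 8
      have s7 : 2 * Q ^ 7 ≤ Q ^ 8 := d 7
      have s6 : 2 * Q ^ 6 ≤ Q ^ 7 := d 6
      have s5 : 2 * Q ^ 5 ≤ Q ^ 6 := d 5
      have h1 : Q ≤ Q ^ 5 := by simpa using p 1 5 (by omega)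
      have h3 := p 3 5 (by omega)
      have h4 := p 4 5 (by omega)
      have h5 : 1 ≤ Q ^ 5 := Nat.one_le_pow _ _ (by omega)
      omega
    calc Q ^ 12 * ((r + 1) * (r + 3)) * ((r + 1) * (Q ^ 2 + Q + 1) * (Q ^ 3 + 1)) *
          (Q ^ 8 + Q ^ 4 + 1)
        = (Q ^ 12 * (r + 1) ^ 2 * (Q ^ 2 + Q + 1)) *
            ((r + 3) * (Q ^ 3 + 1) * (Q ^ 8 + Q ^ 4 + 1)) := by ring
      _ < (Q ^ 12 * (r + 1) ^ 2 * (Q ^ 2 + Q + 1)) * (2 * Q ^ 12) := by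
          exact Nat.mul_lt_mul_of_pos_left key (by positivity)
      _ = _ := by ring) hg
  obtain ⟨A, B, hB, rfl⟩ := exists_tor C hh
  exact ⟨A, B, hB, hc⟩

/-! ### Parabolic subgroups -/

/-- The parabolic subgroup of an orbit. -/
noncomputable def Par (C : D4Tw.Ctx K q) (J : Fin C.Z.nJ) : Subgroup (GL chevD4.Idx K) :=
  chevD4.parabolicSubgroup K (Fin.val '' {i | i ∈ C.Z.orb J})

theorem rk_parabolic {J : Fin C.Z.nJ} {i : Fin chevD4.rank} (hi : i ∈ C.Z.orb J) (g : SL(2, K)) :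
    rk i g ∈ Par C J ∧ (n0 C)⁻¹ * rk i g * n0 C ∈ Par C J := by
  have hin : i.val ∈ Fin.val '' {i | i ∈ C.Z.orb J} := ⟨i, hi, rfl⟩
  have hle : chevD4.leviSubgroup K (Fin.val '' {i | i ∈ C.Z.orb J}) ≤ Par C J := by
    rw [Par, ← good_D4.rad_sup_levi]; exact le_sup_right
  have hp := good_D4.full.simple_lt i.isLt
  have h1 : ∀ t, good_D4.full.x (chevD4.simple i) t ∈ Par C J := fun t =>
    hle (good_D4.levi_x_mem (good_D4.inJ_simple.mpr hin) t)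
  have h2 : ∀ t, good_D4.full.x (negR chevD4 (chevD4.simple i)) t ∈ Par C J := fun t =>
    hle (good_D4.levi_x_mem (good_D4.inJ_negR (good_D4.inJ_simple.mpr hin)) t)
  refine ⟨good_D4.hom_mem_of_x i h1 h2 g, ?_⟩
  have hinv : (negPerm chevD4)⁻¹ = negPerm chevD4 :=
    inv_eq_of_mul_eq_one_right (Equiv.ext fun s => negF_negF s)
  have hn := good_D4.rootAct_inv (n0_mono C) (n0_act C)
  rw [hinv] at hn
  obtain ⟨c, hc⟩ := hn
  have key := good_D4.hom_mem_of_x (F := K) i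
    (K := (Par C J).comap (MulAut.conj (n0 C)⁻¹).toMonoidHom) (fun t => ?_) (fun t => ?_) g
  · simpa using key
  · have e := (hc ⟨_, hp⟩).2.2.2 t
    simp only [inv_inv] at e
    rw [Subgroup.mem_comap]
    simp only [MulEquiv.coe_toMonoidHom, MulAut.conj_apply, inv_inv]
    rw [e]
    exact h2 _
  · have e := (hc ⟨_, Cert.negR_lt hp⟩).2.2.2 t
    simp only [inv_inv] at e
    rw [Subgroup.mem_comap]
    simp only [MulEquiv.coe_toMonoidHom, MulAut.conj_apply, inv_inv]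
    rw [e, show (negPerm chevD4 (⟨negR chevD4 (chevD4.simple i), Cert.negR_lt hp⟩ :
      Fin chevD4.nroots)).val = chevD4.simple i from Cert.negR_negR hp]
    exact h1 _

theorem phiS_parabolic (g : SL(2, K)) :
    phiS C g ∈ Par C (JS C) ∧ (n0 C)⁻¹ * phiS C g * n0 C ∈ Par C (JS C) := by
  have h0 := rk_parabolic C (J := JS C) (i := 0) (List.mem_cons_self ..) g
  have h2 := rk_parabolic C (J := JS C) (i := 2)
    (List.mem_cons_of_mem _ (List.mem_cons_self ..)) (fr C g)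
  have h3 := rk_parabolic C (J := JS C) (i := 3)
    (List.mem_cons_of_mem _ (List.mem_cons_of_mem _ (List.mem_cons_self ..))) (fr C (fr C g))
  rw [phiS_apply]
  refine ⟨mul_mem h0.1 (mul_mem h2.1 h3.1), ?_⟩
  have e : ∀ a b c : GL chevD4.Idx K, (n0 C)⁻¹ * (a * (b * c)) * n0 C =
      ((n0 C)⁻¹ * a * n0 C) * (((n0 C)⁻¹ * b * n0 C) * ((n0 C)⁻¹ * c * n0 C)) := fun a b c => by
    group
  rw [e]
  exact mul_mem h0.2 (mul_mem h2.2 h3.2)

theorem phiL_parabolic (g : SL(2, Kq C)) :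
    phiL C g ∈ Par C (JL C) ∧ (n0 C)⁻¹ * phiL C g * n0 C ∈ Par C (JL C) :=
  rk_parabolic C (J := JL C) (i := 1) (List.mem_cons_self ..) _

theorem phiS_conj_radT (g : SL(2, K)) {a : GL chevD4.Idx K} (ha : a ∈ C.Z.radT (JS C)) :
    phiS C g * a * (phiS C g)⁻¹ ∈ C.Z.radT (JS C) :=
  C.Z.parabolic_conj_radT (C.Z.le_fix (phiS_mem C g)) (phiS_parabolic C g).1 ha

theorem phiS_conj_radV (g : SL(2, K)) {a : GL chevD4.Idx K} (ha : a ∈ C.Z.radV (L C) (JS C)) :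
    phiS C g * a * (phiS C g)⁻¹ ∈ C.Z.radV (L C) (JS C) :=
  C.Z.parabolic_conj_radV (C.Z.le_fix (phiS_mem C g)) (phiS_parabolic C g).2 ha

theorem phiL_conj_radT (g : SL(2, Kq C)) {a : GL chevD4.Idx K} (ha : a ∈ C.Z.radT (JL C)) :
    phiL C g * a * (phiL C g)⁻¹ ∈ C.Z.radT (JL C) :=
  C.Z.parabolic_conj_radT (C.Z.le_fix (phiL_mem C g)) (phiL_parabolic C g).1 ha

theorem phiL_conj_radV (g : SL(2, Kq C)) {a : GL chevD4.Idx K}
    (ha : a ∈ C.Z.radV (L C) (JL C)) :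
    phiL C g * a * (phiL C g)⁻¹ ∈ C.Z.radV (L C) (JL C) :=
  C.Z.parabolic_conj_radV (C.Z.le_fix (phiL_mem C g)) (phiL_parabolic C g).2 ha

/-! ### Root groups -/

theorem XJ_S {b : GL chevD4.Idx K} (hb : b ∈ C.Z.XJ (JS C)) :
    ∃ t, b = phiS C (RankOne.eX t) := by
  obtain ⟨t, ht, rfl⟩ := C.A.mem_XJ.mp hb
  exact ⟨t (0 : Fin chevD4.rank), (congrArg List.prod (List.map_congr_left fun i hi => by
    rw [C.A.tup_determined (J := (1 : Fin D4Tw.orbs.length)) ht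
      (C.tup_three (J := 1) rfl (t (0 : Fin chevD4.rank))) (List.mem_cons_self ..) rfl i hi]
    rfl)).trans (phiS_eX C _).symm⟩

theorem XJ_L {b : GL chevD4.Idx K} (hb : b ∈ C.Z.XJ (JL C)) :
    ∃ t, b = phiL C (RankOne.eX t) := by
  obtain ⟨t, ht, rfl⟩ := C.A.mem_XJ.mp hb
  have e : t (1 : Fin chevD4.rank) ^ q = t 1 := by
    have := ht (1 : Fin chevD4.rank) (List.mem_singleton_self _)
    rw [C.f_simp, C.rho_eq] at this
    exact this.symm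
  refine ⟨⟨t (1 : Fin chevD4.rank), (mem_Kq C).mpr e⟩, Eq.trans ?_ (phiL_eX C _).symm⟩
  exact congrArg List.prod (List.map_congr_left fun i hi => by
    rw [List.mem_singleton.mp hi]; rfl)

theorem n0_conj_PX (J : Fin D4Tw.orbs.length) {t : Fin chevD4.rank → K} (ht : C.A.Tup J t) :
    ∃ t', C.A.Tup J t' ∧ n0 C * good_D4.PX (good_D4.oJ D4Tw.orbs J) t * (n0 C)⁻¹ =
      good_D4.PN (good_D4.oJ D4Tw.orbs J) t' := by
  obtain ⟨c, hc⟩ := n0_act C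
  set s : Fin chevD4.rank → K := fun i => (c (good_D4.full.simp' i) : K) * t i
  have e : n0 C * good_D4.PX (good_D4.oJ D4Tw.orbs J) t * (n0 C)⁻¹ =
      good_D4.PN (good_D4.oJ D4Tw.orbs J) s := by
    rw [Good.PX, conj_list_prod', List.map_map]
    exact congrArg List.prod (List.map_congr_left fun i _ =>
      (hc (good_D4.full.simp' i)).2.2.2 (t i))
  have e' := C.A.n_conj_PX J (fun i => -s i)
  simp only [neg_neg] at e'
  have hfix : good_D4.PX (good_D4.oJ D4Tw.orbs J) (fun i => -s i) ∈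
      C.Φ.Fix ⊓ good_D4.US K (flipSet (good_D4.full.pw (good_D4.oJ D4Tw.orbs J))) := by
    refine Subgroup.mem_inf.mpr ⟨?_, C.A.PX_mem_US J _⟩
    have hn := C.A.grp_le_fix (C.A.n_mem J)
    have h0 := C.Z.fix_conj (C.Z.le_fix (n0_mem C)) (C.A.PX_mem_fix ht)
    rw [e, ← e'] at h0
    simpa [mul_assoc] using mul_mem (mul_mem (inv_mem hn) h0) hn
  obtain ⟨u, hu, eu⟩ := C.A.mem_XJ.mp hfix
  refine ⟨fun i => -u i, C.A.tup_neg hu, ?_⟩
  rw [e, ← e', eu, C.A.n_conj_PX]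

theorem n0_conj_S (t : K) : ∃ w, n0 C * phiS C (RankOne.eX t) * (n0 C)⁻¹ = phiS C (eL w) := by
  obtain ⟨u, hu, e⟩ := n0_conj_PX C 1 (C.tup_three (J := 1) rfl t)
  refine ⟨u (0 : Fin chevD4.rank), ?_⟩
  rw [phiS_eX, phiS_eL, show tupS q t = (![t, 0, t ^ q, (t ^ q) ^ q] : Fin 4 → K) from rfl, e]
  exact congrArg List.prod (List.map_congr_left fun i hi => by
    rw [C.A.tup_determined (J := (1 : Fin D4Tw.orbs.length)) hu
      (C.tup_three (J := 1) rfl (u (0 : Fin chevD4.rank))) (List.mem_cons_self ..) rfl i hi]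
    rfl)

theorem n0_conj_L (t : Kq C) : ∃ w, n0 C * phiL C (RankOne.eX t) * (n0 C)⁻¹ = phiL C (eL w) := by
  obtain ⟨u, hu, e⟩ := n0_conj_PX C 0 (tup_one_orb C ((mem_Kq C).mp t.2))
  have eu : u (1 : Fin chevD4.rank) ^ q = u 1 := by
    have := hu (1 : Fin chevD4.rank) (List.mem_singleton_self _)
    rw [C.f_simp, C.rho_eq] at this
    exact this.symm
  refine ⟨⟨u (1 : Fin chevD4.rank), (mem_Kq C).mpr eu⟩, ?_⟩
  rw [phiL_eX, phiL_eL, e]
  exact congrArg List.prod (List.map_congr_left fun i hi => by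
    rw [List.mem_singleton.mp hi]; rfl)

/-! ### Splitting and moving -/

/-- A cell split along the short orbit. -/
def SplitS (C : D4Tw.Ctx K q) (g : GL chevD4.Idx K) (w : K) (h : GL chevD4.Idx K) (e : K) :
    Prop :=
  ∃ y ∈ C.Z.G1, ∃ v ∈ C.Z.radV (L C) (JS C), ∃ a ∈ C.Z.radT (JS C),
    y * g * y⁻¹ = v * phiS C (eL w) * h * (phiS C (RankOne.eX e) * a)

/-- A cell split along the long orbit. -/
def SplitL (C : D4Tw.Ctx K q) (g : GL chevD4.Idx K) (w : Kq C) (h : GL chevD4.Idx K)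
    (e : Kq C) : Prop :=
  ∃ y ∈ C.Z.G1, ∃ v ∈ C.Z.radV (L C) (JL C), ∃ a ∈ C.Z.radT (JL C),
    y * g * y⁻¹ = v * phiL C (eL w) * h * (phiL C (RankOne.eX e) * a)

theorem exists_splitS {g h : GL chevD4.Idx K} (hc : C.Z.CellT (L C) g h) :
    ∃ w e, SplitS C g w h e := by
  obtain ⟨y, hy, v, hv, u, hu, eg⟩ := hc
  obtain ⟨V, hV, b, hb, rfl⟩ := C.Z.V1_split (L C) (JS C) hv
  obtain ⟨a, ha, b', hb', rfl⟩ := C.Z.U1_split (JS C) hu
  obtain ⟨s, rfl⟩ := XJ_S C hb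
  obtain ⟨t, rfl⟩ := XJ_S C hb'
  obtain ⟨w, hw⟩ := n0_conj_S C s
  refine ⟨w, t, y, hy, V, hV, _, phiS_conj_radT C (RankOne.eX t)⁻¹ ha, ?_⟩
  rw [eg, ← hw, map_inv, n0]
  group

theorem exists_splitL {g h : GL chevD4.Idx K} (hc : C.Z.CellT (L C) g h) :
    ∃ w e, SplitL C g w h e := by
  obtain ⟨y, hy, v, hv, u, hu, eg⟩ := hc
  obtain ⟨V, hV, b, hb, rfl⟩ := C.Z.V1_split (L C) (JL C) hv
  obtain ⟨a, ha, b', hb', rfl⟩ := C.Z.U1_split (JL C) hu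
  obtain ⟨s, rfl⟩ := XJ_L C hb
  obtain ⟨t, rfl⟩ := XJ_L C hb'
  obtain ⟨w, hw⟩ := n0_conj_L C s
  refine ⟨w, t, y, hy, V, hV, _, phiL_conj_radT C (RankOne.eX t)⁻¹ ha, ?_⟩
  rw [eg, ← hw, map_inv, n0]
  group

theorem phiS_eL_mem_V1 (w : K) : phiS C (eL w) ∈ C.Z.V1 (L C) := by
  obtain ⟨c, hc⟩ := good_D4.rootAct_inv (n0_mono C) (n0_act C)
  rw [C.Z.mem_V1]
  refine Subgroup.mem_inf.mpr ⟨C.Z.le_fix (mul_mem (mul_mem (inv_mem (n0_mem C)) (phiS_mem C _))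
    (n0_mem C)), ?_⟩
  have e : phiS C (eL w) = good_D4.PN (good_D4.oJ D4Tw.orbs 1) (tupS q w) := phiS_eL C w
  rw [e]
  have := conj_list_prod' (n0 C)⁻¹ ((good_D4.oJ D4Tw.orbs 1).map fun i : Fin chevD4.rank =>
    good_D4.full.x (negR chevD4 (chevD4.simple i)) (tupS q w i))
  rw [inv_inv] at this
  unfold Good.PN
  rw [show C.Z.nT (L C) = n0 C from rfl, this]
  refine list_prod_mem fun g hg => ?_
  obtain ⟨_, hm, rfl⟩ := List.mem_map.mp hg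
  obtain ⟨i, -, rfl⟩ := List.mem_map.mp hm
  have e1 := (hc ⟨_, Cert.negR_lt (good_D4.full.simple_lt i.isLt)⟩).2.2.2 (tupS q w i)
  rw [inv_inv] at e1
  rw [e1, show (((negPerm chevD4)⁻¹ : Equiv.Perm _) (⟨negR chevD4 (chevD4.simple i),
    Cert.negR_lt (good_D4.full.simple_lt i.isLt)⟩ : Fin chevD4.nroots)).val = chevD4.simple i from
      Cert.negR_negR (good_D4.full.simple_lt i.isLt)]
  exact good_D4.x_mem_pos (good_D4.pos_simp i) _

theorem SplitS.cellT {g h : GL chevD4.Idx K} {w e : K} (hs : SplitS C g w h e) :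
    C.Z.CellT (L C) g h := by
  obtain ⟨y, hy, v, hv, a, ha, eg⟩ := hs
  refine ⟨y, hy, v * phiS C (eL w), mul_mem (C.Z.radV_le_V1 _ _ hv) (phiS_eL_mem_V1 C w),
    phiS C (RankOne.eX e) * a, mul_mem ?_ (C.Z.radT_le_U1 _ ha), eg⟩
  rw [phiS_eX]
  exact C.Z.XJ_le_U1 (JS C) (C.A.mem_XJ.mpr ⟨_, C.tup_three (J := 1) rfl e, rfl⟩)

theorem phiL_eL_mem_V1 (w : Kq C) : phiL C (eL w) ∈ C.Z.V1 (L C) := by
  obtain ⟨c, hc⟩ := good_D4.rootAct_inv (n0_mono C) (n0_act C)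
  rw [C.Z.mem_V1]
  refine Subgroup.mem_inf.mpr ⟨C.Z.le_fix (mul_mem (mul_mem (inv_mem (n0_mem C)) (phiL_mem C _))
    (n0_mem C)), ?_⟩
  have hp := Cert.negR_lt (D := chevD4) (good_D4.full.simple_lt (1 : Fin chevD4.rank).isLt)
  have e1 := (hc ⟨_, hp⟩).2.2.2 (w : K)
  rw [inv_inv] at e1
  rw [phiL, MonoidHom.comp_apply, map_eL]
  simp only [rk, good_D4.hom_eL]
  rw [show C.Z.nT (L C) = n0 C from rfl, e1,
    show (((negPerm chevD4)⁻¹ : Equiv.Perm _) (⟨_, hp⟩ : Fin chevD4.nroots)).val =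
      chevD4.simple (1 : Fin chevD4.rank) from
      Cert.negR_negR (good_D4.full.simple_lt (1 : Fin chevD4.rank).isLt)]
  exact good_D4.x_mem_pos (F := K) (good_D4.pos_simp (1 : Fin chevD4.rank)) _

theorem SplitL.cellT {g h : GL chevD4.Idx K} {w e : Kq C} (hs : SplitL C g w h e) :
    C.Z.CellT (L C) g h := by
  obtain ⟨y, hy, v, hv, a, ha, eg⟩ := hs
  refine ⟨y, hy, v * phiL C (eL w), mul_mem (C.Z.radV_le_V1 _ _ hv) (phiL_eL_mem_V1 C w),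
    phiL C (RankOne.eX e) * a, mul_mem ?_ (C.Z.radT_le_U1 _ ha), eg⟩
  rw [phiL_eX]
  exact C.Z.XJ_le_U1 (JL C)
    (C.A.mem_XJ.mpr ⟨_, tup_one_orb C ((mem_Kq C).mp e.2), rfl⟩)

theorem SplitS.move {g : GL chevD4.Idx K} {w e : K} {A B : Kˣ} (hB : B ^ q = B)
    (h3 : 3 ≤ Fintype.card K) (hs : SplitS C g w (tor q A B) e)
    (hne : chiS A B ≠ 1 ∨ w ≠ 0 ∨ e ≠ 0) (A' : Kˣ) : Cell C g A' B := by
  obtain ⟨y, hy, v, hv, a, ha, eg⟩ := hs
  obtain ⟨l, w', e', em⟩ := sl2_move h3 (phiS C) (tor_conj_phiS C A hB) w e hne (A' * A⁻¹)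
  rw [phiS_eH, ← tor_mul, inv_mul_cancel_right, one_mul] at em
  refine SplitS.cellT C (w := w') (e := e') ⟨phiS C l * y, mul_mem (phiS_mem C l) hy, _,
    phiS_conj_radV C l hv, _, phiS_conj_radT C l ha, ?_⟩
  calc phiS C l * y * g * (phiS C l * y)⁻¹ = phiS C l * (y * g * y⁻¹) * (phiS C l)⁻¹ := by group
    _ = (phiS C l * v * (phiS C l)⁻¹) * (phiS C l * (phiS C (eL w) * tor q A B *
          phiS C (RankOne.eX e)) * (phiS C l)⁻¹) * (phiS C l * a * (phiS C l)⁻¹) := by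
      rw [eg]; group
    _ = _ := by rw [em]; group

theorem Cell.moveS {g : GL chevD4.Idx K} {A B : Kˣ} (hB : B ^ q = B) (h : Cell C g A B)
    (hne : chiS A B ≠ 1) (A' : Kˣ) : Cell C g A' B := by
  obtain ⟨w, e, hs⟩ := exists_splitS C h
  refine hs.move C hB ?_ (Or.inl hne) A'
  rw [C.hK]
  calc 3 ≤ 2 ^ 3 := by norm_num
    _ ≤ q ^ 3 := Nat.pow_le_pow_left (two_le C) 3

theorem Cell.moveL (hq3 : 3 ≤ q) {g : GL chevD4.Idx K} {A B : Kˣ} (hB : B ^ q = B)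
    (h : Cell C g A B) (hne : chiL q A B ≠ 1) {B' : Kˣ} (hB' : B' ^ q = B') :
    Cell C g A B' := by
  obtain ⟨w, e, y, hy, v, hv, a, ha, eg⟩ := exists_splitL C h
  haveI : Fintype (Kq C) := Fintype.ofFinite _
  have hcard : 3 ≤ Fintype.card (Kq C) := by rw [← Nat.card_eq_fintype_card, card_Kq]; exact hq3
  have hfix : ∀ u : Kˣ, u ^ q = u → (u : K) ^ q = u := fun u hu => by
    rw [← Units.val_pow_eq_pow_val, hu]
  let χ : (Kq C)ˣ := Units.mk0 ⟨_, (mem_Kq C).mpr (hfix _ (chiL_fixed C A hB))⟩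
    (fun h => (chiL q A B).ne_zero (congrArg Subtype.val h))
  let t : (Kq C)ˣ := Units.mk0 ⟨_, (mem_Kq C).mpr (hfix (B' * B⁻¹) (by
      rw [mul_pow, inv_pow, hB', hB]))⟩
    (fun h => (B' * B⁻¹).ne_zero (congrArg Subtype.val h))
  obtain ⟨l, w', e', em⟩ := sl2_move hcard (phiL C) (tor_conj_phiL C A χ rfl) w e
    (Or.inl fun h => hne (Units.ext (congrArg (fun u : (Kq C)ˣ => ((u : Kq C) : K)) h))) t
  rw [phiL_eH, show Units.map (Kq C).subtype.toMonoidHom t = B' * B⁻¹ from Units.ext rfl,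
    ← tor_mul, one_mul, inv_mul_cancel_right] at em
  refine SplitL.cellT C (w := w') (e := e') ⟨phiL C l * y, mul_mem (phiL_mem C l) hy, _,
    phiL_conj_radV C l hv, _, phiL_conj_radT C l ha, ?_⟩
  calc phiL C l * y * g * (phiL C l * y)⁻¹ = phiL C l * (y * g * y⁻¹) * (phiL C l)⁻¹ := by group
    _ = (phiL C l * v * (phiL C l)⁻¹) * (phiL C l * (phiL C (eL w) * tor q A B *
          phiL C (RankOne.eX e)) * (phiL C l)⁻¹) * (phiL C l * a * (phiL C l)⁻¹) := by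
      rw [eg]; group
    _ = _ := by rw [em]; group

/-! ### Fixed point free torus elements -/

theorem n0_inv_tor (A : Kˣ) (B : Kˣ) : n0 C * tor q A B * (n0 C)⁻¹ = tor q A⁻¹ B⁻¹ := by
  rw [tor, tor, tc_inv]
  exact good_D4.hT_conj_longest (n0_act C) (n0_mono C) _

theorem conj_V1_of_conj_U1 {x : GL chevD4.Idx K}
    (h : ∀ w ∈ C.Z.U1, ((n0 C)⁻¹ * x * n0 C) * w * ((n0 C)⁻¹ * x * n0 C)⁻¹ ∈ C.Z.U1) :
    ∀ w ∈ C.Z.V1 (L C), x * w * x⁻¹ ∈ C.Z.V1 (L C) := by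
  intro w hw
  rw [C.Z.mem_V1] at hw ⊢
  simpa [n0, mul_assoc] using h _ hw

end CfsgLib.OreD4
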