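import Cfsg.Agent.OreD4.Regular
import Mathlib.FieldTheory.Finite.Basic
import Mathlib.RingTheory.IntegralDomain

/-!
`³D₄(q)`, `q ≥ 4`: a regular element of the split torus.
-/

set_option autoImplicit false
set_option linter.style.haveILetI false

namespace CfsgLib.OreD4

open Cfsg.Lie Matrix CfsgLib.Chev CfsgLib.Chev.Tab
open scoped MatrixGroups

theorem cartPos : ∀ i : Fin 4, ∀ p ∈ ([(14, ![-1, 2, -1, -1]), (18, ![2, -1, 0, 0]),
    (13, ![0, -1, 2, 0]), (12, ![0, -1, 0, 2]), (19, ![1, 1, -1, -1]), (16, ![-1, 1, 1, -1]),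
    (15, ![-1, 1, -1, 1]), (21, ![1, 0, 1, -1]), (20, ![1, 0, -1, 1]), (17, ![-1, 0, 1, 1]),
    (22, ![1, -1, 1, 1]), (23, ![0, 1, 0, 0])] : List (ℕ × (Fin 4 → ℤ))),
    D4Data.tab.cart i p.1 = p.2 i := by decide +kernel

variable {K : Type*} [Field K] [Fintype K] {q : ℕ} (C : D4Tw.Ctx K q)

omit [Fintype K] in
theorem chi_pos {s : ℕ} {e : Fin 4 → ℤ} (h : (s, e) ∈ ([(14, ![-1, 2, -1, -1]),
    (18, ![2, -1, 0, 0]), (13, ![0, -1, 2, 0]), (12, ![0, -1, 0, 2]), (19, ![1, 1, -1, -1]),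
    (16, ![-1, 1, 1, -1]), (15, ![-1, 1, -1, 1]), (21, ![1, 0, 1, -1]), (20, ![1, 0, -1, 1]),
    (17, ![-1, 0, 1, 1]), (22, ![1, -1, 1, 1]), (23, ![0, 1, 0, 0])] : List (ℕ × (Fin 4 → ℤ))))
    (A B : Kˣ) : D4Data.tab.chi (F := K) s (tc q A B) =
      A ^ e 0 * B ^ e 1 * (A ^ q) ^ e 2 * ((A ^ q) ^ q) ^ e 3 := by
  show ∏ i : Fin 4, (tc q A B) i ^ D4Data.tab.cart i s = _
  rw [Fin.prod_univ_four, cartPos 0 _ h, cartPos 1 _ h, cartPos 2 _ h, cartPos 3 _ h]
  rfl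

include C

/-- The element `(ζ^(q-1), β)` is regular. -/
theorem regular {A B : Kˣ} (hB : B ^ q = B) (hB2 : B ^ 2 ≠ 1)
    (hN : A * A ^ q * (A ^ q) ^ q = 1) (hA : (A ^ 2) ^ q ≠ A ^ 2) :
    ∀ s, IsPos chevD4 s → D4Data.tab.chi (F := K) s (tc q A B) ≠ 1 := by
  have hA1 : ((A ^ q) ^ 2) ^ q ≠ (A ^ q) ^ 2 := by
    intro h
    refine hA ?_
    have e : ∀ m n : ℕ, (A ^ m) ^ n = (A ^ n) ^ m := fun m n => by
      rw [← pow_mul, ← pow_mul, mul_comm]
    rw [e q 2] at h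
    have h' := congrArg (fun u : Kˣ => (u ^ q) ^ q) h
    simp only [C.units_pow_qqq] at h'
    exact h'
  have hA2 : (((A ^ q) ^ q) ^ 2) ^ q ≠ ((A ^ q) ^ q) ^ 2 := by
    intro h
    refine hA ?_
    have e : ((A ^ q) ^ q) ^ 2 = ((A ^ 2) ^ q) ^ q := by
      rw [← pow_mul, ← pow_mul, ← pow_mul, ← pow_mul]; congr 1; ring
    rw [e, C.units_pow_qqq] at h
    have h' := congrArg (fun u : Kˣ => u ^ q) h
    simp only [C.units_pow_qqq] at h'
    exact h'
  have hBi : B⁻¹ ^ q = B⁻¹ := by rw [inv_pow, hB]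
  -- the values up to the relation
  have n0 : A = (A ^ q * (A ^ q) ^ q)⁻¹ := eq_inv_of_mul_eq_one_left (by rw [← mul_assoc]; exact hN)
  have n1 : A ^ q = (A * (A ^ q) ^ q)⁻¹ :=
    eq_inv_of_mul_eq_one_left (by rw [← mul_assoc, mul_comm (A ^ q) A]; exact hN)
  have n2 : (A ^ q) ^ q = (A * A ^ q)⁻¹ := eq_inv_of_mul_eq_one_right hN
  intro s hs
  have h12 : 12 ≤ s ∧ s < 24 := by
    have h1 := hs.1
    have h2 := hs.2
    change s < 24 at h1
    change 24 ≤ 2 * s at h2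
    omega
  obtain ⟨h1, h2⟩ := h12
  intro h
  interval_cases s
  · rw [chi_pos (e := ![0, -1, 0, 2]) (by decide)] at h
    simp at h
    exact hA2 (by rw [← inv_mul_eq_one.mp h]; exact hB)
  · rw [chi_pos (e := ![0, -1, 2, 0]) (by decide)] at h
    simp at h
    exact hA1 (by rw [← inv_mul_eq_one.mp h]; exact hB)
  · rw [chi_pos (e := ![-1, 2, -1, -1]) (by decide)] at h
    simp at h
    refine hB2 ?_
    calc B ^ 2 = A⁻¹ * B ^ 2 * (A ^ q)⁻¹ * ((A ^ q) ^ q)⁻¹ * (A * A ^ q * (A ^ q) ^ q) := by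
          apply Units.ext; push_cast; field_simp
      _ = 1 := by rw [hN, mul_one, h]
  · rw [chi_pos (e := ![-1, 1, -1, 1]) (by decide)] at h
    simp at h
    refine hA2 ?_
    rw [show ((A ^ q) ^ q) ^ 2 = B⁻¹ from eq_inv_of_mul_eq_one_left (by
      calc ((A ^ q) ^ q) ^ 2 * B = A⁻¹ * B * (A ^ q)⁻¹ * (A ^ q) ^ q * (A * A ^ q * (A ^ q) ^ q) := by
            apply Units.ext; push_cast; field_simp
        _ = 1 := by rw [hN, mul_one, h])]
    exact hBi
  · rw [chi_pos (e := ![-1, 1, 1, -1]) (by decide)] at h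
    simp at h
    refine hA1 ?_
    rw [show (A ^ q) ^ 2 = B⁻¹ from eq_inv_of_mul_eq_one_left (by
      calc (A ^ q) ^ 2 * B = A⁻¹ * B * A ^ q * ((A ^ q) ^ q)⁻¹ * (A * A ^ q * (A ^ q) ^ q) := by
            apply Units.ext; push_cast; field_simp
        _ = 1 := by rw [hN, mul_one, h])]
    exact hBi
  · rw [chi_pos (e := ![-1, 0, 1, 1]) (by decide)] at h
    simp at h
    refine hA ?_
    rw [show A ^ 2 = 1 from (by
      calc A ^ 2 = A * A ^ q * (A ^ q) ^ q * (A⁻¹ * A ^ q * (A ^ q) ^ q)⁻¹ := by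
            apply Units.ext; push_cast; field_simp
        _ = 1 := by rw [hN, h, inv_one, mul_one])]
    exact one_pow q
  · rw [chi_pos (e := ![2, -1, 0, 0]) (by decide)] at h
    simp at h
    exact hA (by rw [mul_inv_eq_one.mp h]; exact hB)
  · rw [chi_pos (e := ![1, 1, -1, -1]) (by decide)] at h
    simp at h
    refine hA ?_
    rw [show A ^ 2 = B⁻¹ from eq_inv_of_mul_eq_one_left (by
      calc A ^ 2 * B = A * B * (A ^ q)⁻¹ * ((A ^ q) ^ q)⁻¹ * (A * A ^ q * (A ^ q) ^ q) := by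
            apply Units.ext; push_cast; field_simp
        _ = 1 := by rw [hN, mul_one, h])]
    exact hBi
  · rw [chi_pos (e := ![1, 0, -1, 1]) (by decide)] at h
    simp at h
    refine hA1 ?_
    rw [show (A ^ q) ^ 2 = 1 from (by
      calc (A ^ q) ^ 2 = A * A ^ q * (A ^ q) ^ q * (A * (A ^ q)⁻¹ * (A ^ q) ^ q)⁻¹ := by
            apply Units.ext; push_cast; field_simp
        _ = 1 := by rw [hN, h, inv_one, mul_one])]
    exact one_pow q
  · rw [chi_pos (e := ![1, 0, 1, -1]) (by decide)] at h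
    simp at h
    refine hA2 ?_
    rw [show ((A ^ q) ^ q) ^ 2 = 1 from (by
      calc ((A ^ q) ^ q) ^ 2 = A * A ^ q * (A ^ q) ^ q * (A * A ^ q * ((A ^ q) ^ q)⁻¹)⁻¹ := by
            apply Units.ext; push_cast; field_simp
        _ = 1 := by rw [hN, h, inv_one, mul_one])]
    exact one_pow q
  · rw [chi_pos (e := ![1, -1, 1, 1]) (by decide)] at h
    simp at h
    refine hB2 ?_
    have : B = 1 := inv_eq_one.mp (by
      calc B⁻¹ = A * B⁻¹ * A ^ q * (A ^ q) ^ q * (A * A ^ q * (A ^ q) ^ q)⁻¹ := by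
            apply Units.ext; push_cast; field_simp
        _ = 1 := by rw [hN, h, inv_one, mul_one])
    rw [this, one_pow]
  · rw [chi_pos (e := ![0, 1, 0, 0]) (by decide)] at h
    simp at h
    exact hB2 (by rw [h, one_pow])

theorem units_pow_qm1 (u : Kˣ) : u ^ (q ^ 3 - 1) = 1 := by
  rw [← C.hK, ← Nat.card_eq_fintype_card, ← Nat.card_units]
  exact pow_card_eq_one'

theorem large (hq4 : 4 ≤ q) :
    ∃ x ∈ C.Z.G1, x ^ (q ^ 3 - 1) = 1 ∧ ∀ g ∈ C.Z.G1, g ≠ 1 → Cover C x g := by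
  classical
  obtain ⟨ζ, hζ⟩ := IsCyclic.exists_generator (α := Kˣ)
  have hord : orderOf ζ = q ^ 3 - 1 := by
    rw [orderOf_eq_card_of_forall_mem_zpowers hζ, Nat.card_units, Nat.card_eq_fintype_card, C.hK]
  have hne : ∀ n : ℕ, n ≠ 0 → n < q ^ 3 - 1 → ζ ^ n ≠ 1 := fun n h0 hlt h =>
    absurd (orderOf_le_of_pow_eq_one (Nat.pos_of_ne_zero h0) h) (by omega)
  obtain ⟨r, rfl⟩ : ∃ r, q = r + 4 := ⟨q - 4, by omega⟩
  have e3 : (r + 4) ^ 3 - 1 = (r + 3) * ((r + 4) ^ 2 + (r + 4) + 1) := by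
    have : (r + 3) * ((r + 4) ^ 2 + (r + 4) + 1) + 1 = (r + 4) ^ 3 := by ring
    omega
  set A1 := ζ ^ (r + 3) with hA1
  set B1 := ζ ^ ((r + 4) ^ 2 + (r + 4) + 1) with hB1
  have hB : B1 ^ (r + 4) = B1 := by
    rw [hB1, ← pow_mul, show ((r + 4) ^ 2 + (r + 4) + 1) * (r + 4) =
      (r + 3) * ((r + 4) ^ 2 + (r + 4) + 1) + ((r + 4) ^ 2 + (r + 4) + 1) by ring, pow_add, ← e3,
      units_pow_qm1 C, one_mul]
  have hB2 : B1 ^ 2 ≠ 1 := by
    rw [hB1, ← pow_mul]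
    exact hne _ (by positivity) (by rw [e3]; nlinarith)
  have hN : A1 * A1 ^ (r + 4) * (A1 ^ (r + 4)) ^ (r + 4) = 1 := by
    rw [hA1, ← pow_mul, ← pow_mul, ← pow_add, ← pow_add,
      show r + 3 + (r + 3) * (r + 4) + (r + 3) * (r + 4) * (r + 4) =
        (r + 3) * ((r + 4) ^ 2 + (r + 4) + 1) by ring, ← e3, units_pow_qm1 C]
  have hA : (A1 ^ 2) ^ (r + 4) ≠ A1 ^ 2 := by
    intro h
    refine hne ((r + 3) * 2 * (r + 3)) (by positivity) (by rw [e3]; nlinarith) ?_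
    have h' : ζ ^ ((r + 3) * 2 * (r + 3)) * ζ ^ ((r + 3) * 2) = ζ ^ ((r + 3) * 2) := by
      rw [← pow_add, show (r + 3) * 2 * (r + 3) + (r + 3) * 2 = (r + 3) * 2 * (r + 4) by ring,
        pow_mul, pow_mul]
      exact h
    exact mul_eq_right.mp h'
  have hreg := regular C hB hB2 hN hA
  refine ⟨tor (r + 4) A1 B1, C.Z.H0_le (tor_mem C A1 hB), ?_, fun g hg _ => ?_⟩
  · rw [tor, ← map_pow, show tc (r + 4) A1 B1 ^ ((r + 4) ^ 3 - 1) = 1 from
      funext fun i => by rw [Pi.pow_apply, Pi.one_apply, units_pow_qm1 C], map_one]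
  have hone : Cell C g 1 1 → Cover C (tor (r + 4) A1 B1) g := fun h =>
    cover_cell C hB hreg (Or.inr ⟨rfl, rfl⟩) (by rwa [mul_inv_cancel, mul_inv_cancel])
  have hBB : (B1 * B1) ^ (r + 4) = B1 * B1 := by rw [mul_pow, hB]
  have hgo : ∀ A B : Kˣ, B ^ (r + 4) = B → Cell C g A B → chiL (r + 4) A B ≠ 1 →
      Cover C (tor (r + 4) A1 B1) g := by
    intro A B hb h hne'
    by_cases hs : A ^ 2 = B1 * B1
    · have h1 := h.moveL C (by omega) hb hne' (B' := 1) (one_pow _)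
      refine hone (h1.moveS C (one_pow _) ?_ 1)
      rw [chiS, inv_one, mul_one, hs, ← pow_two]
      exact hB2
    · have h1 := h.moveL C (by omega) hb hne' hBB
      exact cover_cell C hB hreg (Or.inl ⟨rfl, rfl⟩)
        (h1.moveS C hBB (fun h => hs (mul_inv_eq_one.mp h)) (A1 * A1))
  obtain ⟨A, B, hb, hc⟩ := exists_cell C hg
  by_cases hl : chiL (r + 4) A B = 1
  · by_cases hs : chiS A B = 1
    · have hBA : B = A ^ 2 := (mul_inv_eq_one.mp hs).symm
      have hN' : A * A ^ (r + 4) * (A ^ (r + 4)) ^ (r + 4) = B ^ 2 := (mul_inv_eq_one.mp hl).symm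
      have hA2q : (A ^ 2) ^ (r + 4) = A ^ 2 := by rw [← hBA]; exact hb
      -- `A` is fixed
      have hAq : A ^ (r + 4) = A := by
        have hsq : (A ^ (r + 4) * A⁻¹) ^ 2 = 1 := by
          rw [mul_pow, ← pow_mul, mul_comm (r + 4) 2, pow_mul, hA2q, inv_pow, mul_inv_cancel]
        have hnorm : (A ^ (r + 4) * A⁻¹) ^ ((r + 4) ^ 2 + (r + 4) + 1) = 1 := by
          have e1 : A ^ (r + 4) * A⁻¹ = A ^ (r + 3) := by
            rw [pow_succ A (r + 3), mul_inv_cancel_right]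
          rw [e1, ← pow_mul, ← e3, units_pow_qm1 C]
        obtain ⟨m, hm⟩ : ∃ m, (r + 4) ^ 2 + (r + 4) + 1 = 2 * m + 1 := by
          obtain ⟨k, hk⟩ := Nat.even_mul_succ_self (r + 4)
          exact ⟨k, by rw [show (r + 4) ^ 2 + (r + 4) = (r + 4) * (r + 4 + 1) by ring, hk]; ring⟩
        rw [hm, pow_succ, pow_mul, hsq, one_pow, one_mul, mul_inv_eq_one] at hnorm
        exact hnorm
      rw [hAq, hAq, hBA, ← pow_mul] at hN'
      have hA1' : A = 1 := by
        have : A ^ (2 * 2) = A ^ 3 * A := by rw [← pow_succ]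
        rw [this, ← pow_two, ← pow_succ] at hN'
        exact mul_eq_left.mp (show A ^ 3 * A = A ^ 3 from hN'.symm)
      subst hA1'
      rw [one_pow] at hBA
      subst hBA
      exact hone hc
    · -- make the long value nontrivial
      obtain ⟨A', hA'⟩ : ∃ A' : Kˣ, chiL (r + 4) A' B ≠ 1 := by
        by_contra hcon
        push Not at hcon
        have h1 := hcon 1
        have h2 := hcon ζ
        simp only [chiL, one_pow, mul_one, inv_one] at h1
        rw [chiL, h1, one_mul, inv_eq_one, ← pow_mul, ← pow_succ', ← pow_add] at h2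
        refine hne _ (by positivity) (by rw [e3]; nlinarith) h2
      exact hgo A' B hb (hc.moveS C hb hs A') hA'
  · exact hgo A B hb hc hl

end CfsgLib.OreD4
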