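import Mathlib.Tactic

/-!
Conjugacy in the group generated by six involutions satisfying the relations of `SL₃(2)`.
-/

set_option autoImplicit false

namespace CfsgLib.OreD4

variable {M : Type*} [Group M]

/-- The relations between the root elements. -/
structure A2Rel (x1 x2 x3 y1 y2 y3 : M) : Prop where
  ix1 : x1 * x1 = 1
  ix2 : x2 * x2 = 1
  ix3 : x3 * x3 = 1
  iy1 : y1 * y1 = 1
  iy2 : y2 * y2 = 1
  iy3 : y3 * y3 = 1
  x12 : x1 * x2 = x2 * x1 * x3
  x13 : x1 * x3 = x3 * x1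
  x23 : x2 * x3 = x3 * x2
  y12 : y1 * y2 = y2 * y1 * y3
  y13 : y1 * y3 = y3 * y1
  y23 : y2 * y3 = y3 * y2
  c12 : x1 * y2 = y2 * x1
  c21 : x2 * y1 = y1 * x2
  x3y1 : x3 * y1 = y1 * x3 * x2
  x3y2 : x3 * y2 = y2 * x3 * x1
  y3x1 : y3 * x1 = x1 * y3 * y2
  y3x2 : y3 * x2 = x2 * y3 * y1
  br1 : x1 * y1 * x1 = y1 * x1 * y1
  br2 : x2 * y2 * x2 = y2 * x2 * y2

/-- A power with exponent `0` or `1`. -/
def bp (x : M) (b : Bool) : M := if b then x else 1

/-- The element with given coordinates. -/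
def bword (x1 x2 x3 y1 y2 y3 : M) (a b c d e f : Bool) : M :=
  bp y1 a * (bp y2 b * bp y3 c) * (bp x1 d * (bp x2 e * bp x3 f))

namespace A2Rel

variable {x1 x2 x3 y1 y2 y3 : M} (R : A2Rel x1 x2 x3 y1 y2 y3)
include R

theorem swapXY : A2Rel y1 y2 y3 x1 x2 x3 where
  ix1 := R.iy1
  ix2 := R.iy2
  ix3 := R.iy3
  iy1 := R.ix1
  iy2 := R.ix2
  iy3 := R.ix3
  x12 := R.y12
  x13 := R.y13
  x23 := R.y23
  y12 := R.x12
  y13 := R.x13
  y23 := R.x23
  c12 := R.c21.symm
  c21 := R.c12.symm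
  x3y1 := R.y3x1
  x3y2 := R.y3x2
  y3x1 := R.x3y1
  y3x2 := R.x3y2
  br1 := R.br1.symm
  br2 := R.br2.symm

theorem x21 : x2 * x1 = x1 * x2 * x3 := by
  rw [R.x12, mul_assoc (x2 * x1), R.ix3, mul_one]

theorem y21 : y2 * y1 = y1 * y2 * y3 := by
  rw [R.y12, mul_assoc (y2 * y1), R.iy3, mul_one]

theorem swap12 : A2Rel x2 x1 x3 y2 y1 y3 where
  ix1 := R.ix2
  ix2 := R.ix1
  ix3 := R.ix3
  iy1 := R.iy2
  iy2 := R.iy1
  iy3 := R.iy3
  x12 := R.x21
  x13 := R.x23
  x23 := R.x13
  y12 := R.y21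
  y13 := R.y23
  y23 := R.y13
  c12 := R.c21
  c21 := R.c12
  x3y1 := R.x3y2
  x3y2 := R.x3y1
  y3x1 := R.y3x2
  y3x2 := R.y3x1
  br1 := R.br2
  br2 := R.br1

/-- The conjugation which is not visible in the unipotent coordinates. -/
theorem hard : y1 * (x1 * y1 * x1) * (y2 * y1 * x1) * (y1 * (x1 * y1 * x1))⁻¹ = y1 * y3 * x1 := by
  have hi : (y1 * (x1 * y1 * x1))⁻¹ = x1 * y1 * x1 * y1 := by
    refine inv_eq_of_mul_eq_one_right ?_
    calc y1 * (x1 * y1 * x1) * (x1 * y1 * x1 * y1)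
        = y1 * x1 * (y1 * ((x1 * x1) * y1)) * (x1 * y1) := by group
      _ = 1 := by
        rw [R.ix1, one_mul, R.iy1, mul_one, mul_assoc, ← mul_assoc x1 x1, R.ix1, one_mul, R.iy1]
  have e2 : x1 * y1 * x1 * y2 * (x1 * y1 * x1) = y3 := by
    calc x1 * y1 * x1 * y2 * (x1 * y1 * x1)
        = x1 * y1 * (x1 * y2) * x1 * (y1 * x1) := by group
      _ = x1 * y1 * (y2 * x1) * x1 * (y1 * x1) := by rw [R.c12]
      _ = x1 * (y1 * y2) * (x1 * x1) * y1 * x1 := by group
      _ = x1 * (y2 * y1 * y3) * y1 * x1 := by rw [R.ix1, mul_one, R.y12]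
      _ = (x1 * y2) * (y1 * y3 * y1) * x1 := by group
      _ = (y2 * x1) * y3 * x1 := by
        rw [R.c12, R.y13, mul_assoc y3, R.iy1, mul_one]
      _ = y2 * x1 * (y3 * x1) := by group
      _ = y2 * (x1 * x1) * y3 * y2 := by rw [R.y3x1]; group
      _ = _ := by rw [R.ix1, mul_one, R.y23, mul_assoc, R.iy2, mul_one]
  have e1 : x1 * y1 * x1 * y1 * (x1 * y1 * x1) = x1 := by
    calc x1 * y1 * x1 * y1 * (x1 * y1 * x1) = x1 * y1 * x1 * y1 * (y1 * x1 * y1) := by rw [R.br1]
      _ = x1 * y1 * x1 * (y1 * y1) * x1 * y1 := by group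
      _ = x1 * y1 * (x1 * x1) * y1 := by rw [R.iy1, mul_one]; group
      _ = x1 * (y1 * y1) := by rw [R.ix1, mul_one, mul_assoc]
      _ = _ := by rw [R.iy1, mul_one]
  have e3 : x1 * y1 * x1 * x1 * (x1 * y1 * x1) = y1 := by
    calc x1 * y1 * x1 * x1 * (x1 * y1 * x1) = x1 * y1 * (x1 * x1) * (x1 * y1 * x1) := by group
      _ = x1 * y1 * (y1 * x1 * y1) := by rw [R.ix1, mul_one, R.br1]
      _ = x1 * (y1 * y1) * x1 * y1 := by group
      _ = _ := by rw [R.iy1, mul_one, R.ix1, one_mul]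
  have hn : (x1 * y1 * x1) * (x1 * y1 * x1) = 1 := by
    calc (x1 * y1 * x1) * (x1 * y1 * x1) = x1 * (y1 * (x1 * x1) * y1) * x1 := by group
      _ = 1 := by rw [R.ix1, mul_one, R.iy1, mul_one, R.ix1]
  rw [hi]
  set n := x1 * y1 * x1
  calc y1 * n * (y2 * y1 * x1) * (n * y1)
      = y1 * (n * y2 * (n * n) * y1 * (n * n) * x1 * n) * y1 := by rw [hn]; group
    _ = y1 * ((n * y2 * n) * (n * y1 * n) * (n * x1 * n)) * y1 := by group
    _ = y1 * y3 * x1 * (y1 * y1) := by rw [e1, e2, e3]; group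
    _ = _ := by rw [R.iy1, mul_one]

/-- A move: conjugation by `x1`. -/
theorem move_x1 (b c d e f : Bool) :
    x1 * bword x1 x2 x3 y1 y2 y3 false b c d e f * x1⁻¹ =
      bword x1 x2 x3 y1 y2 y3 false (xor b c) c d e (xor f e) := by
  have hi : x1⁻¹ = x1 := inv_eq_of_mul_eq_one_right R.ix1
  have a3 : x1 * y3 * x1 = y3 * y2 := by
    rw [mul_assoc, R.y3x1]; simp only [← mul_assoc]; rw [R.ix1, one_mul]
  have a2 : x1 * y2 * x1 = y2 := by rw [R.c12, mul_assoc, R.ix1, mul_one]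
  have b2 : x1 * x2 * x1 = x2 * x3 := by
    rw [R.x12, mul_assoc (x2 * x1), ← R.x13, ← mul_assoc, mul_assoc x2, R.ix1, mul_one]
  have b3 : x1 * x3 * x1 = x3 := by rw [R.x13, mul_assoc, R.ix1, mul_one]
  have ha : x1 * (bp y2 b * bp y3 c) * x1 = bp y2 (xor b c) * bp y3 c := by
    have : x1 * (bp y2 b * bp y3 c) * x1 = (x1 * bp y2 b * x1) * (x1 * bp y3 c * x1) := by
      calc x1 * (bp y2 b * bp y3 c) * x1 = x1 * bp y2 b * (1 * bp y3 c * x1) := by group
        _ = _ := by rw [← R.ix1]; group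
    rw [this]
    cases b <;> cases c <;> simp [bp, a2, a3, R.ix1]
    · exact R.y23.symm
    · rw [← mul_assoc, R.y23, mul_assoc, R.iy2, mul_one]
  have hb : x1 * (bp x1 d * (bp x2 e * bp x3 f)) * x1 =
      bp x1 d * (bp x2 e * bp x3 (xor f e)) := by
    have : x1 * (bp x1 d * (bp x2 e * bp x3 f)) * x1 =
        (x1 * bp x1 d * x1) * ((x1 * bp x2 e * x1) * (x1 * bp x3 f * x1)) := by
      calc x1 * (bp x1 d * (bp x2 e * bp x3 f)) * x1
          = x1 * bp x1 d * (1 * (bp x2 e * (1 * (bp x3 f * x1)))) := by group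
        _ = _ := by rw [← R.ix1]; group
    rw [this]
    cases d <;> cases e <;> cases f <;> simp [bp, b2, b3, R.ix1, mul_assoc, R.ix3]
  rw [hi, bword, bword, ← ha, ← hb]
  simp only [bp, Bool.false_eq_true, if_false, one_mul]
  calc x1 * ((if b = true then y2 else 1) * (if c = true then y3 else 1) *
        ((if d = true then x1 else 1) * ((if e = true then x2 else 1) * if f = true then x3 else 1)))
        * x1
      = x1 * ((if b = true then y2 else 1) * (if c = true then y3 else 1)) * 1 *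
        (((if d = true then x1 else 1) * ((if e = true then x2 else 1) * if f = true then x3 else 1)))
        * x1 := by group
    _ = _ := by rw [← R.ix1]; group

end A2Rel

/-- The parity. -/
def evenB (a b d e : Bool) : Bool := !(xor (xor a b) (xor d e))

theorem all_cases {Q : Bool → Bool → Bool → Bool → Bool → Bool → Prop}
    (he : ∀ a b c d e f, evenB a b d e = true → Q a b c d e f)
    (m1 : ∀ b c d e f, Q false (xor b c) c d e (xor f e) → Q false b c d e f)
    (m2 : ∀ a c d e f, Q (xor a c) false c d e (xor f d) → Q a false c d e f)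
    (m3 : ∀ a b c e f, Q a b (xor c b) false (xor e f) f → Q a b c false e f)
    (m4 : ∀ a b c d f, Q a b (xor c a) (xor d f) false f → Q a b c d false f)
    (hA : Q true true true true false false) (hB : Q true true false false true false)
    (hC : Q true false false true true true) (hD : Q false true false true true false) :
    ∀ a b c d e f, Q a b c d e f := by
  intro a b c d e f
  cases a <;> cases b <;> cases c <;> cases d <;> cases e <;> cases f <;>
    first
      | exact he _ _ _ _ _ _ rfl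
      | exact hA
      | exact hB
      | exact hC
      | exact hD
      | exact m1 _ _ _ _ _ (he _ _ _ _ _ _ rfl)
      | exact m2 _ _ _ _ _ (he _ _ _ _ _ _ rfl)
      | exact m3 _ _ _ _ _ (he _ _ _ _ _ _ rfl)
      | exact m4 _ _ _ _ _ (he _ _ _ _ _ _ rfl)
      | exact m4 _ _ _ _ _ (m2 _ _ _ _ _ (he _ _ _ _ _ _ rfl))
      | exact m3 _ _ _ _ _ (m1 _ _ _ _ _ (he _ _ _ _ _ _ rfl))
      | exact m2 _ _ _ _ _ (m4 _ _ _ _ _ (he _ _ _ _ _ _ rfl))
      | exact m1 _ _ _ _ _ (m3 _ _ _ _ _ (he _ _ _ _ _ _ rfl))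
      | exact m4 _ _ _ _ _ hA
      | exact m3 _ _ _ _ _ hB
      | exact m2 _ _ _ _ _ hC
      | exact m1 _ _ _ _ _ hD

namespace A2Rel

variable {x1 x2 x3 y1 y2 y3 : M} (R : A2Rel x1 x2 x3 y1 y2 y3)
include R

theorem comm13_bp (a c : Bool) : bp y1 a * bp y3 c = bp y3 c * bp y1 a := by
  cases a <;> cases c <;> simp [bp, R.y13]

/-- The word with the roles of the two fundamental roots exchanged. -/
theorem bword_swap12 (a b c d e f : Bool) : bword x2 x1 x3 y2 y1 y3 a b c d e f =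
    bword x1 x2 x3 y1 y2 y3 b a (xor c (a && b)) e d (xor f (d && e)) := by
  have key : ∀ {u v w : M}, u * u = 1 → v * v = 1 → w * w = 1 → v * u = u * v * w → ∀ a b c,
      bp v a * (bp u b * bp w c) = bp u b * (bp v a * bp w (xor c (a && b))) := by
    intro u v w _ _ hw h a b c
    cases a <;> cases b <;> cases c <;> simp [bp, h, mul_assoc, hw]
    all_goals rw [← mul_assoc, h]; simp [mul_assoc, hw]
  rw [bword, bword, key R.iy1 R.iy2 R.iy3 R.y21, key R.ix1 R.ix2 R.ix3 R.x21]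

/-- A conjugation invariant property which holds for the even words holds for all words. -/
theorem word_cases {P : M → Prop}
    (hP : ∀ y ∈ Subgroup.closure ({x1, x2, x3, y1, y2, y3} : Set M), ∀ g,
      P (y * g * y⁻¹) → P g)
    (he : ∀ a b c d e f, evenB a b d e = true → P (bword x1 x2 x3 y1 y2 y3 a b c d e f)) :
    ∀ a b c d e f, P (bword x1 x2 x3 y1 y2 y3 a b c d e f) := by
  have hg : ∀ y ∈ ({x1, x2, x3, y1, y2, y3} : Set M),
      y ∈ Subgroup.closure ({x1, x2, x3, y1, y2, y3} : Set M) := fun y hy =>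
    Subgroup.subset_closure hy
  have gx1 := hg x1 (by simp)
  have gx2 := hg x2 (by simp)
  have gy1 := hg y1 (by simp)
  have gy2 := hg y2 (by simp)
  -- swapping the two sides
  have hsw : ∀ l u : M, l ∈ Subgroup.closure ({x1, x2, x3, y1, y2, y3} : Set M) →
      P (l * u) → P (u * l) := fun l u hl h =>
    hP l hl _ (by rwa [show l * (u * l) * l⁻¹ = l * u by group])
  have hmemL : ∀ a b c, bp y1 a * (bp y2 b * bp y3 c) ∈
      Subgroup.closure ({x1, x2, x3, y1, y2, y3} : Set M) := fun a b c => by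
    cases a <;> cases b <;> cases c <;> simp only [bp, if_true, Bool.false_eq_true, if_false] <;>
      repeat' first | apply mul_mem | apply one_mem | exact hg _ (by simp)
  refine all_cases (Q := fun a b c d e f => P (bword x1 x2 x3 y1 y2 y3 a b c d e f)) he ?_ ?_ ?_ ?_
    ?_ ?_ ?_ ?_
  · intro b c d e f h
    exact hP x1 gx1 _ (by rw [R.move_x1]; exact h)
  · intro a c d e f h
    refine hP x2 gx2 _ ?_
    have e1 : bword x1 x2 x3 y1 y2 y3 a false c d e f =
        bword x2 x1 x3 y2 y1 y3 false a c e d (xor f (d && e)) := by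
      rw [R.bword_swap12]
      cases a <;> cases c <;> cases d <;> cases e <;> cases f <;> rfl
    rw [e1, R.swap12.move_x1, R.bword_swap12]
    revert h
    cases a <;> cases c <;> cases d <;> cases e <;> cases f <;> exact id
  · intro a b c e f h
    refine hP y1 gy1 _ ?_
    have h' : P (bp x1 false * (bp x2 (xor e f) * bp x3 f) *
        (bp y1 a * (bp y2 b * bp y3 (xor c b)))) := hsw _ _ (hmemL _ _ _) h
    have e1 := R.swapXY.move_x1 e f a b c
    rw [bword, bword] at e1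
    set l := bp y1 a * (bp y2 b * bp y3 c)
    set u := bp x1 false * (bp x2 e * bp x3 f)
    refine hP (y1 * l * y1⁻¹)⁻¹ (inv_mem (mul_mem (mul_mem gy1 (hmemL _ _ _)) (inv_mem gy1))) _ ?_
    rw [show (y1 * l * y1⁻¹)⁻¹ * (y1 * bword x1 x2 x3 y1 y2 y3 a b c false e f * y1⁻¹) *
      (y1 * l * y1⁻¹)⁻¹⁻¹ = y1 * (u * l) * y1⁻¹ by
        rw [show bword x1 x2 x3 y1 y2 y3 a b c false e f = l * u from rfl]; group, e1]
    exact h'
  · intro a b c d f h
    refine hP y2 gy2 _ ?_
    have eL : ∀ a b c, bp y1 a * (bp y2 b * bp y3 c) =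
        bp y2 b * (bp y1 a * bp y3 (xor c (a && b))) := by
      intro a b c
      cases a <;> cases b <;> cases c <;>
        simp [bp, R.y12, mul_assoc, R.iy3, R.y13]
      all_goals first | rfl | (rw [← mul_assoc, R.y12]; simp [mul_assoc, R.iy3])
    have e1 := R.swap12.swapXY.move_x1 d f b a (xor c (a && b))
    rw [bword, bword] at e1
    set l := bp y1 a * (bp y2 b * bp y3 c) with hl
    set u := bp x2 false * (bp x1 d * bp x3 f) with hu
    have hu' : bp x1 d * (bp x2 false * bp x3 f) = u := by simp [hu, bp]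
    rw [← eL] at e1
    refine hP (y2 * l * y2⁻¹)⁻¹ (inv_mem (mul_mem (mul_mem gy2 (hmemL _ _ _)) (inv_mem gy2))) _ ?_
    rw [show (y2 * l * y2⁻¹)⁻¹ * (y2 * bword x1 x2 x3 y1 y2 y3 a b c d false f * y2⁻¹) *
      (y2 * l * y2⁻¹)⁻¹⁻¹ = y2 * (u * l) * y2⁻¹ by
        rw [show bword x1 x2 x3 y1 y2 y3 a b c d false f = l * u by rw [bword, hu']]; group, e1]
    have h' := hsw _ _ (hmemL _ _ _) h
    rw [eL] at h'
    revert h'
    cases a <;> cases b <;> cases c <;> cases d <;> cases f <;> simp [bp]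
  · -- `(111|100)`
    refine hP (y1 * (x1 * y1 * x1)) (mul_mem gy1 (mul_mem (mul_mem gx1 gy1) gx1)) _ ?_
    have e : bword x1 x2 x3 y1 y2 y3 true true true true false false = y2 * y1 * x1 := by
      simp [bword, bp, R.y21, mul_assoc]
    rw [e, R.hard]
    simpa [bword, bp, mul_assoc] using he true false true true false false rfl
  · -- `(110|010)`
    refine hP (y2 * (x2 * y2 * x2)) (mul_mem gy2 (mul_mem (mul_mem gx2 gy2) gx2)) _ ?_
    have e : bword x1 x2 x3 y1 y2 y3 true true false false true false = y1 * y2 * x2 := by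
      simp [bword, bp, mul_assoc]
    rw [e, R.swap12.hard]
    simpa [bword, bp, mul_assoc] using he false true true false true false rfl
  · -- `(100|111)`
    have hl1 : y1 ∈ Subgroup.closure ({x1, x2, x3, y1, y2, y3} : Set M) := gy1
    have e : bword x1 x2 x3 y1 y2 y3 true false false true true true = y1 * (x2 * x1) := by
      simp [bword, bp, R.x21, mul_assoc]
    rw [e]
    refine hP y1⁻¹ (inv_mem gy1) _ ?_
    rw [show y1⁻¹ * (y1 * (x2 * x1)) * y1⁻¹⁻¹ = x2 * x1 * y1 by group]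
    refine hP (x1 * (y1 * x1 * y1)) (mul_mem gx1 (mul_mem (mul_mem gy1 gx1) gy1)) _ ?_
    rw [R.swapXY.hard]
    refine hsw _ _ gy1 ?_
    simpa [bword, bp, mul_assoc] using he true false false true false true rfl
  · -- `(010|110)`
    have e : bword x1 x2 x3 y1 y2 y3 false true false true true false = y2 * (x1 * x2) := by
      simp [bword, bp, mul_assoc]
    rw [e]
    refine hP y2⁻¹ (inv_mem gy2) _ ?_
    rw [show y2⁻¹ * (y2 * (x1 * x2)) * y2⁻¹⁻¹ = x1 * x2 * y2 by group]
    refine hP (x2 * (y2 * x2 * y2)) (mul_mem gx2 (mul_mem (mul_mem gy2 gx2) gy2)) _ ?_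
    rw [R.swap12.swapXY.hard]
    refine hsw _ _ gy2 ?_
    simpa [bword, bp, mul_assoc] using he false true false false true true rfl

end A2Rel

end CfsgLib.OreD4
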