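import Cfsg.Agent.OreChev.Moves
import Mathlib.FieldTheory.Finite.Basic

/-!
Conjugating in `SL₂(8)` a given matrix to one with prescribed diagonal entry, with control of the
parity of the lowest coordinate of two vectors of the twisted tensor product module.
-/

set_option autoImplicit false
set_option linter.style.haveILetI false

namespace CfsgLib.OreD4

open Matrix CfsgLib.Chev
open scoped MatrixGroups

variable {K : Type*} [Field K]

/-- The trace to the prime field. -/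
def tr3 (x : K) : K := x + x ^ 2 + x ^ 4

/-- The lowest coordinate after a conjugation with second row `(x, y)`. -/
def PF (a c d e x y : K) : K :=
  a * y ^ 7 + e * x ^ 7 + tr3 (c * (x * y ^ 6)) + tr3 (d * (x ^ 5 * y ^ 2))

variable [Fintype K] (h8 : Fintype.card K = 8)
include h8

theorem eight_zero : (2 : K) = 0 := by
  have h : ((Fintype.card K : ℕ) : K) = 0 := FiniteField.cast_card_eq_zero K
  rw [h8] at h
  push_cast at h
  exact eq_zero_of_pow_eq_zero (n := 3) (by norm_num; exact h)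

theorem pow8 (x : K) : x ^ 8 = x := by rw [← h8]; exact FiniteField.pow_card x

theorem pow7 {x : K} (hx : x ≠ 0) : x ^ 7 = 1 := by
  refine mul_left_cancel₀ hx ?_
  rw [← pow_succ', pow8 h8, mul_one]

theorem add_self (x : K) : x + x = 0 := by linear_combination x * eight_zero h8

theorem poly7 (c1 c2 c3 c4 c5 c6 c7 : K)
    (h : ∀ y : K, c1 * y + c2 * y ^ 2 + c3 * y ^ 3 + c4 * y ^ 4 + c5 * y ^ 5 + c6 * y ^ 6 +
      c7 * y ^ 7 = 0) : c1 = 0 ∧ c2 = 0 ∧ c3 = 0 ∧ c4 = 0 ∧ c5 = 0 ∧ c6 = 0 ∧ c7 = 0 := by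
  classical
  set p : Polynomial K := Polynomial.C c1 * Polynomial.X + Polynomial.C c2 * Polynomial.X ^ 2 +
    Polynomial.C c3 * Polynomial.X ^ 3 + Polynomial.C c4 * Polynomial.X ^ 4 +
    Polynomial.C c5 * Polynomial.X ^ 5 + Polynomial.C c6 * Polynomial.X ^ 6 +
    Polynomial.C c7 * Polynomial.X ^ 7 with hp
  have hdeg : p.natDegree < (Finset.univ : Finset K).card := by
    rw [Finset.card_univ, h8]
    have : p.natDegree ≤ 7 := by rw [hp]; compute_degree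
    omega
  have hp0 : p = 0 := Polynomial.eq_zero_of_natDegree_lt_card_of_eval_eq_zero' p Finset.univ
    (fun y _ => by rw [hp]; simpa using h y) hdeg
  have hc : ∀ k, p.coeff k = 0 := fun k => by rw [hp0, Polynomial.coeff_zero]
  have e1 := hc 1; have e2 := hc 2; have e3 := hc 3; have e4 := hc 4
  have e5 := hc 5; have e6 := hc 6; have e7 := hc 7
  simp [hp, Polynomial.coeff_add, Polynomial.coeff_C_mul, Polynomial.coeff_X_pow,
    Polynomial.coeff_X] at e1 e2 e3 e4 e5 e6 e7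
  exact ⟨e1, e2, e3, e4, e5, e6, e7⟩

theorem tr3_sq (x : K) : tr3 x * tr3 x = tr3 x := by
  have h := pow8 h8 x
  unfold tr3
  linear_combination h + (x ^ 3 + x ^ 5 + x ^ 6) * eight_zero h8

theorem PF_bit {a c d e : K} (ha : a * a = a) (he : e * e = e) (x y : K) :
    PF a c d e x y = 0 ∨ PF a c d e x y = 1 := by
  have b : ∀ u : K, u * u = u → u = 0 ∨ u = 1 := fun u hu => by
    rcases mul_eq_zero.mp (show u * (u - 1) = 0 by linear_combination hu) with h | h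
    · exact Or.inl h
    · exact Or.inr (sub_eq_zero.mp h)
  have p7 : ∀ u : K, u ^ 7 * u ^ 7 = u ^ 7 := fun u => by
    by_cases hu : u = 0
    · simp [hu]
    · rw [pow7 h8 hu, one_mul]
  refine b _ ?_
  unfold PF
  linear_combination (y ^ 7 * y ^ 7) * ha + a * p7 y + (x ^ 7 * x ^ 7) * he + e * p7 x +
    tr3_sq h8 (c * (x * y ^ 6)) + tr3_sq h8 (d * (x ^ 5 * y ^ 2)) +
    (a * y ^ 7 * (e * x ^ 7) + a * y ^ 7 * tr3 (c * (x * y ^ 6)) +
      a * y ^ 7 * tr3 (d * (x ^ 5 * y ^ 2)) + e * x ^ 7 * tr3 (c * (x * y ^ 6)) +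
      e * x ^ 7 * tr3 (d * (x ^ 5 * y ^ 2)) +
      tr3 (c * (x * y ^ 6)) * tr3 (d * (x ^ 5 * y ^ 2))) * eight_zero h8

theorem PF_smul (a c d e : K) {k : K} (hk : k ≠ 0) (x y : K) :
    PF a c d e (k * x) (k * y) = PF a c d e x y := by
  have h7 := pow7 h8 hk
  have e1 : c * (k * x * (k * y) ^ 6) = c * (x * y ^ 6) := by
    linear_combination (c * x * y ^ 6) * h7
  have e2 : d * ((k * x) ^ 5 * (k * y) ^ 2) = d * (x ^ 5 * y ^ 2) := by
    linear_combination (d * x ^ 5 * y ^ 2) * h7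
  simp only [PF]
  rw [e1, e2, mul_pow, mul_pow, h7, one_mul, one_mul]

theorem sum_PF (a c d e : K) : ∑ r : K × K, PF a c d e r.1 r.2 = 0 := by
  classical
  have key : ∀ (u : K) (i j : ℕ), i < 7 ∨ j < 7 → ∑ r : K × K, u * (r.1 ^ i * r.2 ^ j) = 0 := by
    intro u i j h
    rw [← Finset.mul_sum, Fintype.sum_prod_type]
    simp only [← Finset.mul_sum, ← Finset.sum_mul]
    rcases h with h | h
    · rw [FiniteField.sum_pow_lt_card_sub_one K i (by rw [h8]; omega), zero_mul, mul_zero]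
    · rw [FiniteField.sum_pow_lt_card_sub_one K j (by rw [h8]; omega), mul_zero, mul_zero]
  have hx : ∀ r : K × K, PF a c d e r.1 r.2 = a * (r.1 ^ 0 * r.2 ^ 7) + e * (r.1 ^ 7 * r.2 ^ 0) +
      (c * (r.1 ^ 1 * r.2 ^ 6) + c ^ 2 * (r.1 ^ 2 * r.2 ^ 12) + c ^ 4 * (r.1 ^ 4 * r.2 ^ 24)) +
      (d * (r.1 ^ 5 * r.2 ^ 2) + d ^ 2 * (r.1 ^ 10 * r.2 ^ 4) +
        d ^ 4 * (r.1 ^ 20 * r.2 ^ 1)) := by
    intro r
    have h := pow8 h8 r.2
    unfold PF tr3
    linear_combination (d ^ 4 * r.1 ^ 20) * h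
  simp only [hx, Finset.sum_add_distrib]
  rw [key _ _ _ (Or.inl (by norm_num)), key _ _ _ (Or.inr (by norm_num)),
    key _ _ _ (Or.inl (by norm_num)), key _ _ _ (Or.inl (by norm_num)),
    key _ _ _ (Or.inl (by norm_num)), key _ _ _ (Or.inl (by norm_num)),
    key _ _ _ (Or.inr (by norm_num)), key _ _ _ (Or.inr (by norm_num))]
  simp

/-- Being constant on a line. -/
theorem line_const {a c d e v : K} (h : ∀ s, PF a c d e s 1 = v) :
    a = v ∧ c = 0 ∧ d = 0 ∧ e = 0 := by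
  have h0 : a = v := by simpa [PF, tr3] using h 0
  obtain ⟨e1, -, -, -, e5, -, e7⟩ := poly7 h8 c (c ^ 2) (d ^ 2) (c ^ 4) d (d ^ 4) e fun y => by
    have hy := h y
    have hy8 := pow8 h8 y
    unfold PF tr3 at hy
    linear_combination hy - h0 - (d ^ 2 * y ^ 2 + d ^ 4 * (y ^ 12 + y ^ 5)) * hy8
  exact ⟨h0, e1, e5, e7⟩

/-- Being constant on the other line. -/
theorem line_const' {a c d e v : K} (h : ∀ s, PF a c d e 1 s = v) :
    e = v ∧ a = 0 ∧ c = 0 ∧ d = 0 := by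
  have h0 : e = v := by simpa [PF, tr3] using h 0
  obtain ⟨e1, e2, -, -, -, e6, e7⟩ := poly7 h8 (d ^ 4) d (c ^ 4) (d ^ 2) (c ^ 2) c a fun y => by
    have hy := h y
    have hy8 := pow8 h8 y
    unfold PF tr3 at hy
    linear_combination hy - h0 - (d ^ 4 + c ^ 2 * y ^ 4 + c ^ 4 * (y ^ 16 + y ^ 9 + y ^ 2)) * hy8
  exact ⟨h0, e7, e6, e2⟩

/-- Being periodic on the punctured line. -/
theorem periodic {a c d e ρ : K} (hρ0 : ρ ≠ 0) (hρ : ρ ≠ 1)
    (h : ∀ y : K, y ≠ 0 → PF a c d e (ρ * y) 1 = PF a c d e y 1) : c = 0 ∧ d = 0 := by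
  have h7 := pow7 h8 hρ0
  obtain ⟨e1, -, -, -, e5, -, -⟩ := poly7 h8 (c * (ρ - 1)) (c ^ 2 * (ρ ^ 2 - 1))
    (d ^ 2 * (ρ ^ 3 - 1)) (c ^ 4 * (ρ ^ 4 - 1)) (d * (ρ ^ 5 - 1)) (d ^ 4 * (ρ ^ 6 - 1)) 0
    fun y => by
    by_cases hy0 : y = 0
    · simp [hy0]
    have hy := h y hy0
    have hy8 := pow8 h8 y
    have hr8 := pow8 h8 ρ
    unfold PF tr3 at hy
    linear_combination hy - e * y ^ 7 * h7 -
      d ^ 2 * (ρ ^ 2 * y ^ 2) * hr8 - d ^ 2 * (ρ ^ 10 - ρ ^ 3) * 0 -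
      d ^ 4 * (ρ ^ 12 + ρ ^ 5) * y ^ 20 * hr8 -
      d ^ 2 * (ρ ^ 10 - 1) * y ^ 2 * hy8 + d ^ 2 * (ρ ^ 2) * y ^ 2 * hr8 -
      d ^ 2 * ρ ^ 2 * y ^ 3 * hr8 -
      d ^ 4 * (ρ ^ 6 - 1) * (y ^ 12 + y ^ 5) * hy8
  refine ⟨(mul_eq_zero.mp e1).resolve_right (sub_ne_zero.mpr hρ),
    (mul_eq_zero.mp e5).resolve_right (sub_ne_zero.mpr fun h5 => hρ ?_)⟩
  linear_combination (-(ρ ^ 8 + ρ)) * h7 + (ρ ^ 10 + ρ ^ 5 + 1) * h5

/-! ### Moves -/

/-- There is a conjugation with diagonal entry in `{1, τ, τ⁻¹}` and even parity. -/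
def Mv (τ a c d e a' c' d' e' : K) (m : SL(2, K)) : Prop :=
  ∃ l : SL(2, K), ((l * m * l⁻¹) 0 0 = 1 ∨ (l * m * l⁻¹) 0 0 = τ ∨ (l * m * l⁻¹) 0 0 = τ⁻¹) ∧
    PF a c d e (l 1 0) (l 1 1) + PF a' c' d' e' (l 0 1) (l 0 0) = 0

variable {a c d e a' c' d' e' τ : K} (ha : a * a = a) (he : e * e = e) (ha' : a' * a' = a')
  (he' : e' * e' = e')

omit h8 in
theorem conj00 (l m : SL(2, K)) : (l * m * l⁻¹) 0 0 =
    (l 0 0 * m 0 0 + l 0 1 * m 1 0) * l 1 1 - (l 0 0 * m 0 1 + l 0 1 * m 1 1) * l 1 0 := by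
  show ((l * m * l⁻¹ : SL(2, K)) : Matrix (Fin 2) (Fin 2) K) 0 0 = _
  rw [Matrix.SpecialLinearGroup.coe_mul, Matrix.SpecialLinearGroup.coe_mul,
    Matrix.SpecialLinearGroup.coe_inv, Matrix.adjugate_fin_two]
  simp [Matrix.mul_apply, Fin.sum_univ_two]
  ring

omit h8 in
theorem mk_Mv (m : SL(2, K)) {p q r s t : K} (hdet : p * s - q * r = 1)
    (ht : t = 1 ∨ t = τ ∨ t = τ⁻¹)
    (h00 : (p * m 0 0 + q * m 1 0) * s - (p * m 0 1 + q * m 1 1) * r = t)
    (hpar : PF a c d e r s + PF a' c' d' e' q p = 0) : Mv τ a c d e a' c' d' e' m := by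
  obtain ⟨l, hl⟩ : ∃ l : SL(2, K), (l : Matrix (Fin 2) (Fin 2) K) = !![p, q; r, s] :=
    ⟨⟨_, by rw [Matrix.det_fin_two_of]; exact hdet⟩, rfl⟩
  refine ⟨l, ?_, by simpa [hl] using hpar⟩
  have e : (l * m * l⁻¹) 0 0 = t := by rw [conj00]; simpa [hl] using h00
  rcases ht with h | h | h <;> simp [e, h]

include ha he ha' he'

theorem fail_one (m : SL(2, K)) {p q r s t : K} (hno : ¬ Mv τ a c d e a' c' d' e' m)
    (hdet : p * s - q * r = 1) (ht : t = 1 ∨ t = τ ∨ t = τ⁻¹)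
    (h00 : (p * m 0 0 + q * m 1 0) * s - (p * m 0 1 + q * m 1 1) * r = t) :
    PF a c d e r s + PF a' c' d' e' q p = 1 := by
  rcases PF_bit h8 (c := c) (d := d) ha he r s with h1 | h1 <;>
    rcases PF_bit h8 (c := c') (d := d') ha' he' q p with h2 | h2
  · exact absurd (mk_Mv m hdet ht h00 (by rw [h1, h2, add_zero])) hno
  · rw [h1, h2, zero_add]
  · rw [h1, h2, add_zero]
  · exact absurd (mk_Mv m hdet ht h00 (by rw [h1, h2]; exact add_self h8 1)) hno

theorem ell (m : SL(2, K))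
    (hno : ∀ x y : K, (x, y) ≠ (0, 0) →
      x * (x * m 0 1 + y * m 1 1) - y * (x * m 0 0 + y * m 1 0) ≠ 0) :
    Mv τ a c d e a' c' d' e' m := by
  classical
  by_contra hc
  set f : K × K → K × K := fun r =>
    (r.1 * m 0 0 + r.2 * m 1 0 + r.1, r.1 * m 0 1 + r.2 * m 1 1 + r.2) with hf
  have h2 := eight_zero h8
  have hfail : ∀ r : K × K, r ≠ (0, 0) →
      PF a c d e (f r).1 (f r).2 + PF a' c' d' e' r.2 r.1 = 1 := by
    intro r hr
    set δ := r.1 * (r.1 * m 0 1 + r.2 * m 1 1) - r.2 * (r.1 * m 0 0 + r.2 * m 1 0) with hδ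
    have hδ0 : δ ≠ 0 := hno r.1 r.2 hr
    have h := fail_one h8 ha he ha' he' m (p := δ⁻¹ * r.1) (q := δ⁻¹ * r.2) (r := (f r).1)
      (s := (f r).2) (t := 1) hc ?_ (Or.inl rfl) ?_
    · rwa [PF_smul h8 _ _ _ _ (inv_ne_zero hδ0)] at h
    · rw [hf, mul_assoc, mul_assoc, ← mul_sub, inv_mul_eq_one₀ hδ0, hδ]
      ring
    · rw [show δ⁻¹ * r.1 * m 0 0 + δ⁻¹ * r.2 * m 1 0 = δ⁻¹ * (r.1 * m 0 0 + r.2 * m 1 0) by ring,
        show δ⁻¹ * r.1 * m 0 1 + δ⁻¹ * r.2 * m 1 1 = δ⁻¹ * (r.1 * m 0 1 + r.2 * m 1 1) by ring,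
        mul_assoc, mul_assoc, ← mul_sub, inv_mul_eq_one₀ hδ0, hδ, hf]
      linear_combination (r.1 * (r.1 * m 0 1 + r.2 * m 1 1) -
        r.2 * (r.1 * m 0 0 + r.2 * m 1 0)) * h2
  have hinj : Function.Injective f := by
    intro r r' hrr
    by_contra hne
    have hsub : (r.1 - r'.1, r.2 - r'.2) ≠ ((0 : K), (0 : K)) := fun h => hne (by
      simp only [Prod.mk.injEq, sub_eq_zero] at h
      exact Prod.ext h.1 h.2)
    refine hno _ _ hsub ?_
    simp only [hf, Prod.mk.injEq] at hrr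
    linear_combination (r.1 - r'.1) * hrr.2 - (r.2 - r'.2) * hrr.1
  have e1 : ∑ r : K × K, PF a c d e (f r).1 (f r).2 = 0 := by
    rw [(Finite.injective_iff_bijective.mp hinj).sum_comp (fun r => PF a c d e r.1 r.2)]
    exact sum_PF h8 a c d e
  have e2 : ∑ r : K × K, PF a' c' d' e' r.2 r.1 = 0 :=
    (Equiv.sum_comp (Equiv.prodComm K K) (fun r => PF a' c' d' e' r.1 r.2)).trans
      (sum_PF h8 a' c' d' e')
  have e3 : ∑ r : K × K, (PF a c d e (f r).1 (f r).2 + PF a' c' d' e' r.2 r.1) = 0 := by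
    rw [Finset.sum_add_distrib, e1, e2, add_zero]
  rw [← Finset.add_sum_erase _ _ (Finset.mem_univ ((0 : K), (0 : K)))] at e3
  rw [Finset.sum_congr rfl fun r hr => hfail r (Finset.mem_erase.mp hr).1] at e3
  simp only [Finset.sum_const, Finset.card_erase_of_mem, Finset.mem_univ, Finset.card_univ,
    Fintype.card_prod, h8, hf, nsmul_eq_mul] at e3
  simp [PF, tr3] at e3
  exact one_ne_zero (α := K) (by linear_combination e3 - 31 * h2)

theorem unip (hτ0 : τ ≠ 0) (hτ : τ ≠ 1) (m : SL(2, K)) (w : K) (hm : m = eL w) :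
    Mv τ a c d e a' c' d' e' m := by
  by_contra hc
  have h2 := eight_zero h8
  have hm00 : m 0 0 = 1 ∧ m 0 1 = 0 ∧ m 1 0 = w ∧ m 1 1 = 1 := by
    rw [hm]; simp [coe_eL]
  obtain ⟨e00, e01, e10, e11⟩ := hm00
  have F1 : ∀ s, PF a c d e s 1 + PF a' c' d' e' 0 1 = 1 := fun s =>
    fail_one h8 ha he ha' he' m (p := 1) (q := 0) (r := s) (s := 1) (t := 1) hc (by ring)
      (Or.inl rfl) (by rw [e00, e01, e10]; ring)
  obtain ⟨ha1, hc0, hd0, he0⟩ := line_const h8 (v := 1 + PF a' c' d' e' 0 1) fun s => by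
    linear_combination F1 s - PF a' c' d' e' 0 1 * h2
  have G1 : ∀ s, PF a c d e 1 0 + PF a' c' d' e' 1 s = 1 := fun s =>
    fail_one h8 ha he ha' he' m (p := s) (q := 1) (r := 1) (s := 0) (t := 1) hc
      (by linear_combination -h2) (Or.inl rfl)
      (by rw [e01, e11]; linear_combination -h2)
  have hF10 : PF a c d e 1 0 = 0 := by simp [PF, tr3, he0]
  obtain ⟨he1, ha0, hc0', hd0'⟩ := line_const' h8 (v := (1 : K)) fun s => by
    have := G1 s
    rwa [hF10, zero_add] at this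
  have ha1' : a = 1 := by
    rw [ha1]; simp [PF, tr3, ha0]
  by_cases hw : w = 0
  · refine hc (mk_Mv m (p := 1) (q := 1) (r := 0) (s := 1) (by ring) (t := 1) (Or.inl rfl)
      (by rw [e00, e10, hw]; ring) ?_)
    simp [PF, tr3, ha1', hc0, hd0, he0, he1, ha0, hc0', hd0']
    exact add_self h8 1
  · refine hc (mk_Mv m (p := 0) (q := w⁻¹) (r := w) (s := 1 + τ) (t := τ) ?_ (Or.inr (Or.inl rfl))
      ?_ ?_)
    · rw [inv_mul_cancel₀ hw]; linear_combination -h2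
    · rw [e10, e11, zero_mul, zero_mul, zero_add, zero_add, inv_mul_cancel₀ hw]
      field_simp
      ring
    · have ht : (1 + τ) ^ 7 = 1 := pow7 h8 fun h => hτ (by linear_combination h - h2)
      simp [PF, tr3, ha1', hc0, hd0, he0, he1, ha0, hc0', hd0', ht,
        pow7 h8 hw]
      exact add_self h8 1

theorem split (hτ0 : τ ≠ 0) (hτ : τ ≠ 1) (m : SL(2, K)) (lam : Kˣ) (hl : (lam : K) ≠ 1)
    (hm : m = RankOne.eH lam) (hno : ¬ Mv τ a c d e a' c' d' e' m) :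
    c = 0 ∧ d = 0 ∧ c' = 0 ∧ d' = 0 ∧ a + e + a' + e' = 1 := by
  have h2 := eight_zero h8
  have hm00 : m 0 0 = (lam : K) ∧ m 0 1 = 0 ∧ m 1 0 = 0 ∧ m 1 1 = (lam : K)⁻¹ := by
    rw [hm]; simp [RankOne.coe_eH]
  obtain ⟨e00, e01, e10, e11⟩ := hm00
  have hl0 : (lam : K) ≠ 0 := lam.ne_zero
  have hne : (lam : K) + (lam : K)⁻¹ ≠ 0 := by
    intro h
    refine hl ?_
    have h' : ((lam : K) - 1) * ((lam : K) - 1) = 0 := by
      have : (lam : K) * (lam : K) + 1 = 0 := by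
        have := congrArg ((lam : K) * ·) h
        simp only [mul_add, mul_inv_cancel₀ hl0, mul_zero] at this
        exact this
      linear_combination this - (lam : K) * h2
    exact sub_eq_zero.mp (mul_self_eq_zero.mp h')
  -- the general conjugation
  have gen : ∀ z t : K, z ≠ 0 → (t = 1 ∨ t = τ ∨ t = τ⁻¹) → t ≠ (lam : K) → t ≠ (lam : K)⁻¹ →
      PF a c d e (z * ((lam : K) + t) * ((lam : K)⁻¹ + t)⁻¹) 1 + PF a' c' d' e' 1 z = 1 := by
    intro z t hz ht h1 h1'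
    have hu : (lam : K)⁻¹ + t ≠ 0 := fun h => h1' (by linear_combination h - (lam : K)⁻¹ * h2)
    set δ := z * ((lam : K) + (lam : K)⁻¹) with hδ
    have hδ0 : δ ≠ 0 := mul_ne_zero hz hne
    have h := fail_one h8 ha he ha' he' m (p := δ⁻¹ * z) (q := δ⁻¹ * 1)
      (r := z * ((lam : K) + t)) (s := (lam : K)⁻¹ + t) (t := t) hno ?_ ht ?_
    · rw [PF_smul h8 _ _ _ _ (inv_ne_zero hδ0)] at h
      have e := PF_smul h8 a c d e (inv_ne_zero hu) (z * ((lam : K) + t)) ((lam : K)⁻¹ + t)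
      rw [inv_mul_cancel₀ hu] at e
      rw [mul_comm (z * ((lam : K) + t)), e]
      exact h
    · rw [show δ⁻¹ * z * ((lam : K)⁻¹ + t) - δ⁻¹ * 1 * (z * ((lam : K) + t)) =
        δ⁻¹ * (z * ((lam : K)⁻¹ - (lam : K))) by ring, inv_mul_eq_one₀ hδ0, hδ]
      linear_combination (z * (lam : K)) * h2
    · rw [e00, e01, e10, e11]
      rw [show (δ⁻¹ * z * (lam : K) + δ⁻¹ * 1 * 0) * ((lam : K)⁻¹ + t) -
        (δ⁻¹ * z * 0 + δ⁻¹ * 1 * (lam : K)⁻¹) * (z * ((lam : K) + t)) =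
        δ⁻¹ * (t * (z * ((lam : K) - (lam : K)⁻¹))) + δ⁻¹ * z * ((lam : K) * (lam : K)⁻¹ -
          (lam : K) * (lam : K)⁻¹) by ring, sub_self, mul_zero, add_zero,
        show z * ((lam : K) - (lam : K)⁻¹) = δ by rw [hδ]; linear_combination -(z * (lam : K)⁻¹) * h2,
        mul_comm t, inv_mul_cancel_left₀ hδ0]
  by_cases hT : (lam : K) = τ ∨ (lam : K) = τ⁻¹
  · exfalso
    have hl' : (lam : K)⁻¹ = τ ∨ (lam : K)⁻¹ = τ⁻¹ := by
      rcases hT with h | h
      · right; rw [h]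
      · left; rw [h, inv_inv]
    have hT1 : (lam : K)⁻¹ ≠ 1 := fun h => hl (by rw [← inv_inv (lam : K), h, inv_one])
    have F1 : ∀ s, PF a c d e s 1 + PF a' c' d' e' 0 1 = 1 := fun s =>
      fail_one h8 ha he ha' he' m (p := 1) (q := 0) (r := s) (s := 1) (t := (lam : K)) hno (by ring)
        (Or.inr hT) (by rw [e00, e01, e10]; ring)
    obtain ⟨ha1, hc0, hd0, he0⟩ := line_const h8 (v := 1 + PF a' c' d' e' 0 1) fun s => by
      linear_combination F1 s - PF a' c' d' e' 0 1 * h2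
    have G1 : ∀ s, PF a c d e 1 0 + PF a' c' d' e' 1 s = 1 := fun s =>
      fail_one h8 ha he ha' he' m (p := s) (q := 1) (r := 1) (s := 0) (t := (lam : K)⁻¹) hno
        (by linear_combination -h2) (Or.inr hl')
        (by rw [e01, e11]; linear_combination -(lam : K)⁻¹ * h2)
    have hF10 : PF a c d e 1 0 = 0 := by simp [PF, tr3, he0]
    obtain ⟨he1, ha0, hc0', hd0'⟩ := line_const' h8 (v := (1 : K)) fun s => by
      have := G1 s
      rwa [hF10, zero_add] at this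
    have ha1' : a = 1 := by rw [ha1]; simp [PF, tr3, ha0]
    have := gen 1 1 one_ne_zero (Or.inl rfl) (Ne.symm hl) (Ne.symm hT1)
    simp [PF, tr3, ha1', hc0, hd0, he0, he1, ha0, hc0', hd0', add_self h8] at this
  · simp only [not_or] at hT
    have hτ1 : τ ≠ (lam : K)⁻¹ := fun h => hT.2 (by rw [h, inv_inv])
    have hu1 : (lam : K)⁻¹ + 1 ≠ 0 := fun h => hl (by
      have : (lam : K)⁻¹ = 1 := by linear_combination h - h2
      rw [← inv_inv (lam : K), this, inv_one])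
    have hv1 : (lam : K) + 1 ≠ 0 := fun h => hl (by linear_combination h - h2)
    have huτ : (lam : K)⁻¹ + τ ≠ 0 := fun h => hτ1 (by linear_combination h - (lam : K)⁻¹ * h2)
    have hvτ : (lam : K) + τ ≠ 0 := fun h => hT.1 (by linear_combination h - τ * h2)
    set k1 := ((lam : K) + 1) * ((lam : K)⁻¹ + 1)⁻¹ with hk1
    set k2 := ((lam : K) + τ) * ((lam : K)⁻¹ + τ)⁻¹ with hk2
    have hk10 : k1 ≠ 0 := mul_ne_zero hv1 (inv_ne_zero hu1)
    have hk20 : k2 ≠ 0 := mul_ne_zero hvτ (inv_ne_zero huτ)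
    have hk : k2 * k1⁻¹ ≠ 1 := by
      rw [Ne, mul_inv_eq_one₀ hk10, hk1, hk2, ← div_eq_mul_inv, ← div_eq_mul_inv,
        div_eq_div_iff huτ hu1]
      intro h
      have h' : ((lam : K) + (lam : K)⁻¹) * (τ - 1) = 0 := by
        linear_combination -h + ((lam : K) * (τ - 1) + ((lam : K) - (lam : K)⁻¹) * (1 - τ)) * h2
      exact hτ (sub_eq_zero.mp ((mul_eq_zero.mp h').resolve_left hne))
    have g1 : ∀ z : K, z ≠ 0 → PF a c d e (z * k1) 1 + PF a' c' d' e' 1 z = 1 := fun z hz => by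
      have := gen z 1 hz (Or.inl rfl) (Ne.symm hl) (fun h => hl (by
        rw [← inv_inv (lam : K), ← h, inv_one]))
      rwa [mul_assoc] at this
    have g2 : ∀ z : K, z ≠ 0 → PF a c d e (z * k2) 1 + PF a' c' d' e' 1 z = 1 := fun z hz => by
      have := gen z τ hz (Or.inr (Or.inl rfl)) (fun h => hT.1 h.symm) hτ1
      rwa [mul_assoc] at this
    obtain ⟨hc0, hd0⟩ := periodic h8 (a := a) (e := e)
      (mul_ne_zero hk20 (inv_ne_zero hk10)) hk fun y hy => by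
      have h1 := g1 (y * k1⁻¹) (mul_ne_zero hy (inv_ne_zero hk10))
      have h2 := g2 (y * k1⁻¹) (mul_ne_zero hy (inv_ne_zero hk10))
      rw [inv_mul_cancel_right₀ hk10] at h1
      rw [show k2 * k1⁻¹ * y = y * k1⁻¹ * k2 by ring]
      linear_combination h2 - h1
    have G1 : ∀ z : K, z ≠ 0 → PF a' c' d' e' 1 z = 1 + a + e := fun z hz => by
      have := g1 z hz
      simp [PF, tr3, hc0, hd0, pow7 h8 (mul_ne_zero hz hk10)] at this
      simp only [PF, tr3]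
      linear_combination this - (a + e) * h2
    obtain ⟨-, hd0', -, -, -, hc0', -⟩ := poly7 h8 (d' ^ 4) d' (c' ^ 4) (d' ^ 2) (c' ^ 2) c'
      (a' + e' + 1 + a + e) fun y => by
      by_cases hy : y = 0
      · simp [hy]
      have h := G1 y hy
      have hy8 := pow8 h8 y
      have hy7 := pow7 h8 hy
      unfold PF tr3 at h
      linear_combination h + (e' + 1 + a + e) * hy7 -
        (d' ^ 4 + c' ^ 2 * y ^ 4 + c' ^ 4 * (y ^ 16 + y ^ 9 + y ^ 2)) * hy8 +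
        (1 + a + e) * h2
    refine ⟨hc0, hd0, hc0', hd0', ?_⟩
    have := G1 1 one_ne_zero
    simp [PF, tr3, hc0', hd0'] at this
    linear_combination this + (a + e) * h2

omit ha he ha' he' in
/-- The three kinds of matrices. -/
theorem normal_form (m : SL(2, K)) :
    (∀ x y : K, (x, y) ≠ (0, 0) →
      x * (x * m 0 1 + y * m 1 1) - y * (x * m 0 0 + y * m 1 0) ≠ 0) ∨
    ∃ l : SL(2, K), (∃ w, l * m * l⁻¹ = eL w) ∨
      ∃ lam : Kˣ, (lam : K) ≠ 1 ∧ l * m * l⁻¹ = RankOne.eH lam := by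
  classical
  refine or_iff_not_imp_left.mpr fun h => ?_
  push Not at h
  obtain ⟨x, y, hxy, hd⟩ := h
  obtain ⟨p, q, hpq⟩ : ∃ p q : K, x * q - y * p = 1 := by
    by_cases hx : x = 0
    · refine ⟨-y⁻¹, 0, ?_⟩
      have hy : y ≠ 0 := fun hy => hxy (by rw [hx, hy])
      field_simp
      ring
    · exact ⟨0, x⁻¹, by field_simp; ring⟩
  set l0 : SL(2, K) := ⟨!![x, y; p, q], by rw [Matrix.det_fin_two_of]; exact hpq⟩ with hl0
  set n := l0 * m * l0⁻¹ with hn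
  have h01 : n 0 1 = 0 := by
    show ((l0 * m * l0⁻¹ : SL(2, K)) : Matrix (Fin 2) (Fin 2) K) 0 1 = 0
    rw [Matrix.SpecialLinearGroup.coe_mul, Matrix.SpecialLinearGroup.coe_mul,
      Matrix.SpecialLinearGroup.coe_inv, Matrix.adjugate_fin_two]
    simp [hl0, Matrix.mul_apply, Fin.sum_univ_two, Matrix.vecMul, dotProduct]
    linear_combination hd
  have hdet : n 0 0 * n 1 1 = 1 := by
    have := RankOne.det_eq n
    rw [h01] at this
    linear_combination this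
  have h00 : n 0 0 ≠ 0 := left_ne_zero_of_mul_eq_one hdet
  by_cases h1 : n 0 0 = 1
  · refine ⟨l0, Or.inl ⟨n 1 0, ?_⟩⟩
    rw [← hn]
    apply Subtype.ext
    rw [coe_eL]
    rw [h1, one_mul] at hdet
    ext i j
    fin_cases i <;> fin_cases j <;> simp [h1, h01, hdet]
  · have h11 : n 1 1 = (n 0 0)⁻¹ := eq_inv_of_mul_eq_one_right hdet
    have hne : n 0 0 - n 1 1 ≠ 0 := by
      rw [h11, sub_ne_zero]
      intro h
      refine h1 (sub_eq_zero.mp (mul_self_eq_zero.mp (?_ : (n 0 0 - 1) * (n 0 0 - 1) = 0)))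
      have h' : n 0 0 * n 0 0 = 1 := by nth_rewrite 2 [h]; rw [mul_inv_cancel₀ h00]
      linear_combination h' + (1 - n 0 0) * eight_zero h8
    set s := -n 1 0 / (n 0 0 - n 1 1) with hs
    refine ⟨eL s * l0, Or.inr ⟨Units.mk0 _ h00, h1, ?_⟩⟩
    rw [show eL s * l0 * m * (eL s * l0)⁻¹ = eL s * n * (eL s)⁻¹ by rw [hn]; group]
    apply Subtype.ext
    rw [Matrix.SpecialLinearGroup.coe_mul, Matrix.SpecialLinearGroup.coe_mul,
      Matrix.SpecialLinearGroup.coe_inv, coe_eL, RankOne.coe_eH, Matrix.adjugate_fin_two]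
    ext i j
    fin_cases i <;> fin_cases j <;>
      simp [Matrix.mul_apply, Fin.sum_univ_two, Matrix.vecMul, dotProduct, h01, h11]
    rw [h11] at hne
    have key : s * (n 0 0 - (n 0 0)⁻¹) = -n 1 0 := by
      rw [hs, h11]; exact div_mul_cancel₀ _ hne
    linear_combination key

end CfsgLib.OreD4
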