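import Cfsg.Agent.OreD4.Cells

/-!
`³D₄(q)`: covering a cell whose torus part is a product of regular elements.
-/

set_option autoImplicit false
set_option linter.style.haveILetI false

namespace CfsgLib.OreD4

open Cfsg.Lie Matrix CfsgLib.Chev CfsgLib.Chev.Tab
open scoped MatrixGroups

variable {K : Type*} [Field K] [Fintype K] {q : ℕ} (C : D4Tw.Ctx K q)
include C

/-- Absorbing the outer factors of `v · x₁ · x₂ · u`. -/
theorem cover_mid {x x1 x2 v u : GL chevD4.Idx K} (V U : Subgroup (GL chevD4.Idx K))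
    (hV : V ≤ C.Z.G1) (hU : U ≤ C.Z.G1)
    (hx1 : ∃ a ∈ C.Z.G1, x1 = a * x * a⁻¹) (hx2 : ∃ a ∈ C.Z.G1, x2 = a * x * a⁻¹)
    (hnV : ∀ w ∈ V, x1 * w * x1⁻¹ ∈ V) (hfV : ∀ w ∈ V, x1 * w = w * x1 → w = 1)
    (hnU : ∀ w ∈ U, x2⁻¹ * w * x2 ∈ U) (hfU : ∀ w ∈ U, x2 * w = w * x2 → w = 1)
    (hv : v ∈ V) (hu : u ∈ U) : Cover C x (v * (x1 * x2) * u) := by
  obtain ⟨a, ha, rfl⟩ := hx1
  obtain ⟨b, hb, rfl⟩ := hx2
  obtain ⟨r, hr, er⟩ := exists_conj_mul_left V hnV hfV hv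
  obtain ⟨s, hs, es⟩ := exists_conj_mul_right U hnU hfU hu
  refine ⟨r * a, mul_mem (hV hr) ha, s * b, mul_mem (hU hs) hb, ?_⟩
  rw [show v * (a * x * a⁻¹ * (b * x * b⁻¹)) * u = v * (a * x * a⁻¹) * (b * x * b⁻¹ * u) by group,
    er, es]
  group

theorem cent_pos_eq_one {c : Fin chevD4.rank → Kˣ}
    (hc : ∀ s, IsPos chevD4 s → D4Data.tab.chi (F := K) s c ≠ 1) {u : GL chevD4.Idx K}
    (hu : u ∈ C.Z.U1) (h : D4Data.tab.hT K c * u = u * D4Data.tab.hT K c) : u = 1 := by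
  have hu' : u ∈ good_D4.US K {s | IsPos chevD4 s} := by
    have h2 := (Subgroup.mem_inf.mp hu).2
    rwa [good_D4.posUnipotent_eq] at h2
  have h' : D4Data.tab.hT K c * u * (D4Data.tab.hT K c)⁻¹ = u := by rw [h]; group
  have := (good_D4.fixed_US good_D4.closed_pos c hu').mp h'
  have e : {s | s ∈ {s | IsPos chevD4 s} ∧ D4Data.tab.chi (F := K) s c = 1} = (∅ : Set ℕ) :=
    Set.eq_empty_of_forall_notMem fun s hs => hc s hs.1 hs.2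
  rw [e] at this
  clear h h' hu hu'
  induction this using Subgroup.closure_induction with
  | mem g hg => obtain ⟨r, hr, -⟩ := hg; exact absurd hr (Set.notMem_empty r)
  | one => rfl
  | mul a b _ _ ha hb => simp [ha, hb]
  | inv a _ ha => simp [ha]

theorem tor_conj_U1 (A : Kˣ) {B : Kˣ} (hB : B ^ q = B) {w : GL chevD4.Idx K} (hw : w ∈ C.Z.U1) :
    tor q A B * w * (tor q A B)⁻¹ ∈ C.Z.U1 :=
  C.Z.H0_conj_U1 (tor_mem C A hB) hw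

theorem n0_inv_tor' (A B : Kˣ) : (n0 C)⁻¹ * tor q A B * n0 C = tor q A⁻¹ B⁻¹ := by
  have := n0_inv_tor C A⁻¹ B⁻¹
  rw [inv_inv, inv_inv] at this
  rw [← this]
  group

theorem fixed_inv {B : Kˣ} (hB : B ^ q = B) : B⁻¹ ^ q = B⁻¹ := by rw [inv_pow, hB]

theorem tor_conj_V1 (A : Kˣ) {B : Kˣ} (hB : B ^ q = B) :
    ∀ w ∈ C.Z.V1 (L C), tor q A B * w * (tor q A B)⁻¹ ∈ C.Z.V1 (L C) :=
  conj_V1_of_conj_U1 C fun w hw => by
    rw [n0_inv_tor' C A B]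
    exact tor_conj_U1 C A⁻¹ (fixed_inv C hB) hw

theorem cover_cell {A1 B1 : Kˣ} (hB1 : B1 ^ q = B1)
    (hz : ∀ s, IsPos chevD4 s → D4Data.tab.chi (F := K) s (tc q A1 B1) ≠ 1)
    {g : GL chevD4.Idx K} {A2 B2 : Kˣ}
    (he : (A2 = A1 ∧ B2 = B1) ∨ (A2 = A1⁻¹ ∧ B2 = B1⁻¹))
    (h : Cell C g (A1 * A2) (B1 * B2)) : Cover C (tor q A1 B1) g := by
  obtain ⟨y, hy, v, hv, u, hu, eg⟩ := h
  have hB2 : B2 ^ q = B2 := by
    rcases he with ⟨-, rfl⟩ | ⟨-, rfl⟩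
    · exact hB1
    · exact fixed_inv C hB1
  refine Cover.of_conj C hy ?_
  rw [eg, tor_mul]
  have hz' : ∀ s, IsPos chevD4 s → D4Data.tab.chi (F := K) s (tc q A1⁻¹ B1⁻¹) ≠ 1 :=
    fun s hs => by rw [tc_inv, map_inv]; simpa using hz s hs
  refine cover_mid C (C.Z.V1 (L C)) C.Z.U1 ?_ C.Z.U1_le ⟨1, one_mem _, by group⟩ ?_
    (tor_conj_V1 C A1 hB1) ?_ (fun w hw => ?_) ?_ hv hu
  · intro w hw
    have h1 := C.Z.U1_le (C.Z.mem_V1.mp hw)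
    rw [show w = n0 C * ((n0 C)⁻¹ * w * n0 C) * (n0 C)⁻¹ by group]
    exact mul_mem (mul_mem (n0_mem C) h1) (inv_mem (n0_mem C))
  · rcases he with ⟨rfl, rfl⟩ | ⟨rfl, rfl⟩
    · exact ⟨1, one_mem _, by group⟩
    · exact ⟨n0 C, n0_mem C, (n0_inv_tor C A1 B1).symm⟩
  · intro w hw hc
    have h1 : (n0 C)⁻¹ * w * n0 C = 1 := by
      refine cent_pos_eq_one C hz' (C.Z.mem_V1.mp hw) ?_
      rw [show D4Data.tab.hT K (tc q A1⁻¹ B1⁻¹) = (n0 C)⁻¹ * tor q A1 B1 * n0 C from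
        (n0_inv_tor' C A1 B1).symm]
      calc (n0 C)⁻¹ * tor q A1 B1 * n0 C * ((n0 C)⁻¹ * w * n0 C)
          = (n0 C)⁻¹ * (tor q A1 B1 * w) * n0 C := by group
        _ = _ := by rw [hc]; group
    calc w = n0 C * ((n0 C)⁻¹ * w * n0 C) * (n0 C)⁻¹ := by group
      _ = 1 := by rw [h1]; group
  · have := C.Z.H0_conj_U1 (inv_mem (tor_mem C A2 hB2)) hw
    simpa using this
  · intro w hw hc
    rcases he with ⟨rfl, rfl⟩ | ⟨rfl, rfl⟩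
    · exact cent_pos_eq_one C hz hw hc
    · exact cent_pos_eq_one C hz' hw hc

end CfsgLib.OreD4
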