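import Cfsg.Agent.OreChev.Moves
import Cfsg.Agent.OreG2.GLTwo
import Mathlib.FieldTheory.Finite.Basic

/-!
The outer coset of `SL₂` of index two over the field with 27 elements.
-/

set_option autoImplicit false
set_option linter.style.haveILetI false

namespace CfsgLib.OreD4

open Matrix CfsgLib.Chev
open scoped MatrixGroups

variable {K : Type*} [Field K]

/-- The trace of `k · diag(-1,1)`. -/
def tau (k : SL(2, K)) : K := k 1 1 - k 0 0

/-- The twisted conjugation. -/
def tconj (l k : SL(2, K)) : SL(2, K) := l * k * scaleSL (-1 : Kˣ) l⁻¹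

/-- The reference element of trace `σ`. -/
def kRef (σ : K) : SL(2, K) := ⟨!![0, 1; -1, σ], by simp [Matrix.det_fin_two]⟩

theorem coe_scale (g : SL(2, K)) : (scaleSL (-1 : Kˣ) g : Matrix (Fin 2) (Fin 2) K) =
    !![g 0 0, -g 0 1; -g 1 0, g 1 1] := by
  rw [coe_scaleSL]
  ext i j
  fin_cases i <;> fin_cases j <;> simp

theorem scale_invol (g : SL(2, K)) : scaleSL (-1 : Kˣ) (scaleSL (-1 : Kˣ) g) = g := by
  apply Subtype.ext
  rw [coe_scale]
  simp only [coe_scale]
  ext i j
  fin_cases i <;> fin_cases j <;> simp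

theorem exists_diag [Finite K] (h2 : (2 : K) ≠ 0) {a b : K} (ha : a ≠ 0) (hb : b ≠ 0) (c : K) :
    ∃ x y : K, a * x ^ 2 + b * y ^ 2 = c := by
  classical
  let := Fintype.ofFinite K
  have hodd : Fintype.card K % 2 = 1 :=
    FiniteField.odd_card_of_char_ne_two fun h => h2 (by
      have := ringChar.Nat.cast_ringChar (R := K)
      rw [h] at this
      exact_mod_cast this)
  obtain ⟨x, y, e⟩ := FiniteField.exists_root_sum_quadratic
    (f := Polynomial.C a * Polynomial.X ^ 2 + Polynomial.C 0 * Polynomial.X + Polynomial.C (-c))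
    (g := Polynomial.C b * Polynomial.X ^ 2 + Polynomial.C 0 * Polynomial.X + Polynomial.C 0)
    (Polynomial.degree_quadratic ha) (Polynomial.degree_quadratic hb) hodd
  refine ⟨x, y, ?_⟩
  simp at e
  linear_combination e

theorem exists_tconj [Finite K] (h2 : (2 : K) ≠ 0) {k : SL(2, K)} {σ : K} (hk : tau k = σ)
    (hΔ : ¬ IsSquare (σ ^ 2 + 4)) : ∃ l, tconj l (kRef σ) = k := by
  have hdet := RankOne.det_eq k
  have hk' : k 1 1 - k 0 0 = σ := hk
  set e := k 1 1 + k 0 0 with he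
  set c := -k 1 0 with hc
  have hΔe : e ^ 2 + 4 * c * k 0 1 = σ ^ 2 + 4 := by
    rw [← hk', he, hc]; linear_combination 4 * hdet
  have hc0 : c ≠ 0 := by
    intro h
    refine hΔ ⟨e, ?_⟩
    rw [← hΔe, h]; ring
  obtain ⟨x', y, hxy⟩ := exists_diag h2 (one_ne_zero (α := K))
    (neg_ne_zero.mpr (fun h => hΔ ⟨0, by rw [h]; ring⟩) : -(σ ^ 2 + 4) ≠ 0) (4 * c)
  set x := (x' - e * y) / (2 * c) with hx
  have hdetP : x * (-k 1 0 * x + k 1 1 * y) - (-k 0 0 * x + k 0 1 * y) * y = 1 := by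
    have hgoal : c * x ^ 2 + e * x * y - k 0 1 * y ^ 2 = 1 := by
      rw [hx]
      field_simp
      linear_combination hxy - y ^ 2 * hΔe
    rw [hc, he] at hgoal
    linear_combination hgoal
  let P : SL(2, K) := ⟨!![x, -k 0 0 * x + k 0 1 * y; y, -k 1 0 * x + k 1 1 * y],
    by rw [Matrix.det_fin_two_of]; exact hdetP⟩
  have hP : P * kRef σ = k * scaleSL (-1 : Kˣ) P := by
    apply Subtype.ext
    rw [Matrix.SpecialLinearGroup.coe_mul, Matrix.SpecialLinearGroup.coe_mul, coe_scale]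
    ext i j
    fin_cases i <;> fin_cases j <;>
      simp [P, kRef, Matrix.mul_apply, Fin.sum_univ_two] <;>
      first
        | linear_combination (k 0 0 * x - k 0 1 * y) * hk' - x * hdet
        | linear_combination (k 1 0 * x - k 1 1 * y) * hk' - y * hdet
        | ring
  refine ⟨P, ?_⟩
  rw [tconj, hP, map_inv, mul_inv_cancel_right]

theorem exists_mid [Finite K] (h2 : (2 : K) ≠ 0) (m : SL(2, K)) :
    ∃ k1 k2 : SL(2, K), (tau k1 = 1 ∨ tau k1 = -1) ∧ (tau k2 = 1 ∨ tau k2 = -1) ∧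
      m = k1 * scaleSL (-1 : Kˣ) k2 := by
  suffices h : ∃ A B : Matrix (Fin 2) (Fin 2) K, A.det = -1 ∧ B.det = -1 ∧
      (A.trace = 1 ∨ A.trace = -1) ∧ (B.trace = 1 ∨ B.trace = -1) ∧ A * B = m by
    obtain ⟨A, B, hA, hB, tA, tB, e⟩ := h
    rw [Matrix.det_fin_two] at hA hB
    rw [Matrix.trace_fin_two] at tA tB
    obtain ⟨k1, hk1⟩ : ∃ k : SL(2, K), (k : Matrix (Fin 2) (Fin 2) K) =
        !![-A 0 0, A 0 1; -A 1 0, A 1 1] :=
      ⟨⟨_, by rw [Matrix.det_fin_two_of]; linear_combination -hA⟩, rfl⟩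
    obtain ⟨k2, hk2⟩ : ∃ k : SL(2, K), (k : Matrix (Fin 2) (Fin 2) K) =
        !![-B 0 0, B 0 1; -B 1 0, B 1 1] :=
      ⟨⟨_, by rw [Matrix.det_fin_two_of]; linear_combination -hB⟩, rfl⟩
    refine ⟨k1, k2, ?_, ?_, ?_⟩
    · simpa [tau, hk1, add_comm] using tA
    · simpa [tau, hk2, add_comm] using tB
    · apply Subtype.ext
      rw [Matrix.SpecialLinearGroup.coe_mul, coe_scale, ← e, hk1]
      ext i j
      fin_cases i <;> fin_cases j <;> simp [hk2, Matrix.mul_apply, Fin.sum_univ_two]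
  have hm := RankOne.det_eq m
  by_cases hns : OreG2.NS (m : Matrix (Fin 2) (Fin 2) K)
  · obtain ⟨P, hP, e⟩ := OreG2.exists_companion hns
    rw [m.2] at e
    set T := (m : Matrix (Fin 2) (Fin 2) K).trace
    have h4 : (4 : K) ≠ 0 := by
      rw [show (4 : K) = 2 * 2 by norm_num]; exact mul_ne_zero h2 h2
    obtain ⟨σ, hσ, r, d, hd⟩ : ∃ σ : K, (σ = 1 ∨ σ = -1) ∧ ∃ r d : K,
        (T ^ 2 - 4) * r ^ 2 + (2 * T - 4 * σ) * r + 5 = d ^ 2 := by
      by_cases hT : T ^ 2 - 4 = 0
      · rcases mul_eq_zero.mp (show (T - 2) * (T + 2) = 0 by linear_combination hT) with h | h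
        · refine ⟨-1, Or.inr rfl, -5 / 8, 0, ?_⟩
          have h8 : (8 : K) ≠ 0 := by
            rw [show (8 : K) = 2 * 4 by norm_num]; exact mul_ne_zero h2 h4
          rw [sub_eq_zero.mp h]
          field_simp
          ring
        · refine ⟨1, Or.inl rfl, 5 / 8, 0, ?_⟩
          have h8 : (8 : K) ≠ 0 := by
            rw [show (8 : K) = 2 * 4 by norm_num]; exact mul_ne_zero h2 h4
          rw [eq_neg_of_add_eq_zero_left h]
          field_simp
          ring
      · refine ⟨1, Or.inl rfl, ?_⟩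
        obtain ⟨u, d, hud⟩ := exists_diag h2 (one_ne_zero (α := K))
          (neg_ne_zero.mpr hT : -(T ^ 2 - 4) ≠ 0) ((T - 2) ^ 2 - 5 * (T ^ 2 - 4))
        refine ⟨(u - (T - 2)) / (T ^ 2 - 4), d, ?_⟩
        field_simp
        linear_combination hud
    set p := (T * r + 1 + d) / 2 with hp
    set A₀ : Matrix (Fin 2) (Fin 2) K := !![p, r; r - p * T + σ, 1 - p] with hA₀
    set B₀ : Matrix (Fin 2) (Fin 2) K :=
      -(!![1 - p, -r; -(r - p * T + σ), p] * !![0, -1; 1, T]) with hB₀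
    have hA₀d : A₀.det = -1 := by
      rw [hA₀, Matrix.det_fin_two_of, hp]
      field_simp
      linear_combination hd
    have hPu : IsUnit P.det := isUnit_iff_ne_zero.mpr hP
    have hdiv : ∀ M : Matrix (Fin 2) (Fin 2) K, (P * M * P⁻¹).det = M.det ∧
        (P * M * P⁻¹).trace = M.trace := fun M => by
      refine ⟨?_, ?_⟩
      · rw [Matrix.det_mul, Matrix.det_mul, Matrix.det_nonsing_inv, Ring.inverse_eq_inv']
        field_simp
      · rw [Matrix.trace_mul_cycle, Matrix.nonsing_inv_mul _ hPu, Matrix.one_mul]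
    have hAB : A₀ * B₀ = !![0, -1; 1, T] := by
      rw [hB₀, Matrix.mul_neg, ← Matrix.mul_assoc]
      have : A₀ * !![1 - p, -r; -(r - p * T + σ), p] = (-1 : K) • 1 := by
        rw [hA₀] at hA₀d ⊢
        rw [Matrix.det_fin_two_of] at hA₀d
        ext i j
        fin_cases i <;> fin_cases j <;> simp [Matrix.mul_apply, Fin.sum_univ_two] <;>
          first | linear_combination hA₀d | ring
      rw [this]
      simp
    refine ⟨P * A₀ * P⁻¹, P * B₀ * P⁻¹, ?_, ?_, ?_, ?_, ?_⟩
    · rw [(hdiv _).1, hA₀d]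
    · rw [(hdiv _).1]
      have := congrArg Matrix.det hAB
      rw [Matrix.det_mul, hA₀d, Matrix.det_fin_two_of] at this
      linear_combination -this
    · rw [(hdiv _).2, hA₀, Matrix.trace_fin_two_of]; left; ring
    · rw [(hdiv _).2]
      have : B₀.trace = -σ := by
        rw [hB₀, Matrix.trace_neg, Matrix.trace_fin_two]
        simp [Matrix.mul_apply, Fin.sum_univ_two]
        ring
      rcases hσ with h | h
      · right; rw [this, h]
      · left; rw [this, h, neg_neg]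
    · calc P * A₀ * P⁻¹ * (P * B₀ * P⁻¹) = P * A₀ * (P⁻¹ * P) * B₀ * P⁻¹ := by
            simp only [Matrix.mul_assoc]
        _ = P * (A₀ * B₀) * P⁻¹ := by
            rw [Matrix.nonsing_inv_mul _ hPu, Matrix.mul_one]; simp only [Matrix.mul_assoc]
        _ = _ := by
          rw [hAB, ← e, Matrix.mul_assoc, Matrix.mul_nonsing_inv _ hPu, Matrix.mul_one]
  · have e := OreG2.not_NS hns
    have hc : m 0 0 = 1 ∨ m 0 0 = -1 := by
      have h1 : m 0 0 * m 0 0 = 1 := by
        have := m.2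
        rw [e, Matrix.det_smul, Matrix.det_one, Fintype.card_fin, mul_one] at this
        linear_combination this
      exact mul_self_eq_one_iff.mp h1
    refine ⟨!![1, 1; 1, 0], !![0, m 0 0; m 0 0, -m 0 0], ?_, ?_, ?_, ?_, ?_⟩
    · simp [Matrix.det_fin_two]
    · rcases hc with h | h <;> simp [Matrix.det_fin_two, h]
    · left; simp [Matrix.trace_fin_two]
    · rcases hc with h | h <;> simp [Matrix.trace_fin_two, h]
    · conv_rhs => rw [e]
      ext i j
      fin_cases i <;> fin_cases j <;> simp [Matrix.mul_apply, Fin.sum_univ_two]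

end CfsgLib.OreD4
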