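import Cfsg.Agent.OreD4.Regular

/-!
`³D₄(q)`: the signs with which the longest element permutes the root elements.
-/

set_option autoImplicit false
set_option linter.style.haveILetI false

namespace CfsgLib.OreD4

open Cfsg.Lie Matrix CfsgLib.Chev CfsgLib.Chev.Tab
open scoped MatrixGroups

/-- The image of a root and the sign. -/
def sgnW {D : ChevalleyDatum} (T : Tab D) (L : List ℕ) (s : ℕ) : ℕ × ℤ :=
  L.foldr (fun i p => (T.reflT i p.1, T.sgn i p.1 * p.2)) (s, 1)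

theorem nw_conj_sgn {D : ChevalleyDatum} {T : Tab D} (G : T.Good) {F : Type*} [Field F]
    (L : List (Fin D.rank)) {s : ℕ} (hs : s < D.nroots) :
    (sgnW T (L.map Fin.val) s).1 < D.nroots ∧ ∀ t : F,
      G.full.nw F L * G.full.x s t * (G.full.nw F L)⁻¹ =
        G.full.x (sgnW T (L.map Fin.val) s).1 (((sgnW T (L.map Fin.val) s).2 : F) * t) := by
  induction L with
  | nil => exact ⟨hs, fun t => by simp [sgnW, Full.nw]⟩
  | cons i L ih =>
    obtain ⟨h1, h2⟩ := ih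
    refine ⟨(G.full.reflT_spec i.isLt h1).1, fun t => ?_⟩
    rw [G.nw_cons, show G.full.ns F i * G.full.nw F L * G.full.x s t *
      (G.full.ns F i * G.full.nw F L)⁻¹ = G.full.ns F i *
        (G.full.nw F L * G.full.x s t * (G.full.nw F L)⁻¹) * (G.full.ns F i)⁻¹ by group, h2,
      G.full.ns_conj i.isLt h1]
    simp [sgnW, mul_assoc]

theorem sgnTab : ∃ ε : ℤ, (ε = 1 ∨ ε = -1) ∧
    ∀ p ∈ ([(18, 5), (13, 10), (12, 11), (5, 18), (10, 13), (11, 12)] : List (ℕ × ℕ)),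
      sgnW D4Data.tab (flatW D4Tw.orbs (L0.map Fin.val)) p.1 = (p.2, ε) := by
  by_cases h : ∀ p ∈ ([(18, 5), (13, 10), (12, 11), (5, 18), (10, 13), (11, 12)] : List (ℕ × ℕ)),
      sgnW D4Data.tab (flatW D4Tw.orbs (L0.map Fin.val)) p.1 = (p.2, 1)
  · exact ⟨1, Or.inl rfl, h⟩
  · exact ⟨-1, Or.inr rfl, by revert h; decide +kernel⟩

variable {K : Type*} [Field K] [Fintype K] {q : ℕ} (C : D4Tw.Ctx K q)

local notation "X" => good_D4.full.x (F := K)

include C

theorem n0_x {s : ℕ} (hs : s < 24) (t : K) : n0 C * X s t * (n0 C)⁻¹ =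
    X (sgnW D4Data.tab (flatW D4Tw.orbs (L0.map Fin.val)) s).1
      (((sgnW D4Data.tab (flatW D4Tw.orbs (L0.map Fin.val)) s).2 : K) * t) := by
  have e : n0 C = good_D4.full.nw K ((L C).flatMap C.Z.word) := C.A.word_prod (L C)
  have ef : ((L C).flatMap C.Z.word).map Fin.val = flatW D4Tw.orbs (L0.map Fin.val) :=
    (C.Z.flatW_eq C.A.hasData (L C)).symm
  have := (nw_conj_sgn good_D4 (F := K) ((L C).flatMap C.Z.word) (s := s) hs).2 t
  rw [ef] at this
  rw [e]
  exact this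

theorem n0_phiS : ∃ ε : K, ε * ε = 1 ∧
    (∀ t, n0 C * phiS C (RankOne.eX t) * (n0 C)⁻¹ = phiS C (eL (ε * t))) ∧
    ∀ t, n0 C * phiS C (eL t) * (n0 C)⁻¹ = phiS C (RankOne.eX (ε * t)) := by
  obtain ⟨ε, hε, h⟩ := sgnTab
  refine ⟨(ε : K), by rcases hε with rfl | rfl <;> simp, fun t => ?_, fun t => ?_⟩
  all_goals
    have hq : ∀ u : K, ((ε : K) * u) ^ q = (ε : K) * u ^ q := fun u => by
      rw [← C.hφ, map_mul, map_intCast, C.hφ]
  · rw [phiS_eX, phiS_eL]
    show n0 C * ([(18, t), (13, t ^ q), (12, (t ^ q) ^ q)].map fun p => X p.1 p.2).prod *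
      (n0 C)⁻¹ = ([(5, (ε : K) * t), (10, ((ε : K) * t) ^ q), (11, (((ε : K) * t) ^ q) ^ q)].map
        fun p => X p.1 p.2).prod
    simp only [List.map_cons, List.map_nil, List.prod_cons, List.prod_nil, mul_one, hq]
    calc n0 C * (X 18 t * (X 13 (t ^ q) * X 12 ((t ^ q) ^ q))) * (n0 C)⁻¹
        = n0 C * X 18 t * (n0 C)⁻¹ * ((n0 C * X 13 (t ^ q) * (n0 C)⁻¹) *
            (n0 C * X 12 ((t ^ q) ^ q) * (n0 C)⁻¹)) := by group
      _ = _ := by
        rw [n0_x C (by norm_num), n0_x C (by norm_num), n0_x C (by norm_num),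
          h (18, 5) (by decide), h (13, 10) (by decide), h (12, 11) (by decide)]
  · rw [phiS_eX, phiS_eL]
    show n0 C * ([(5, t), (10, t ^ q), (11, (t ^ q) ^ q)].map fun p => X p.1 p.2).prod *
      (n0 C)⁻¹ = ([(18, (ε : K) * t), (13, ((ε : K) * t) ^ q), (12, (((ε : K) * t) ^ q) ^ q)].map
        fun p => X p.1 p.2).prod
    simp only [List.map_cons, List.map_nil, List.prod_cons, List.prod_nil, mul_one, hq]
    calc n0 C * (X 5 t * (X 10 (t ^ q) * X 11 ((t ^ q) ^ q))) * (n0 C)⁻¹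
        = n0 C * X 5 t * (n0 C)⁻¹ * ((n0 C * X 10 (t ^ q) * (n0 C)⁻¹) *
            (n0 C * X 11 ((t ^ q) ^ q) * (n0 C)⁻¹)) := by group
      _ = _ := by
        rw [n0_x C (by norm_num), n0_x C (by norm_num), n0_x C (by norm_num),
          h (5, 18) (by decide), h (10, 13) (by decide), h (11, 12) (by decide)]

end CfsgLib.OreD4
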