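import Cfsg.Agent.OreD4.Signs
import Cfsg.Agent.OreD4.SLTwo
import Cfsg.Agent.OreD4.Large
import Cfsg.Agent.Chev.WeaklyClosed

/-!
`³D₄(3)`: an element of order 8 of the short Levi subgroup.
-/

set_option autoImplicit false
set_option linter.style.haveILetI false

namespace CfsgLib.OreD4

open Cfsg.Lie Matrix CfsgLib.Chev CfsgLib.Chev.Tab
open scoped MatrixGroups

/-- The rank is not zero. -/
local instance neZeroRank'' : NeZero chevD4.rank := ⟨by decide⟩

theorem chkTop : ∀ a ∈ ([18, 13, 12, 5, 10, 11] : List ℕ), ∀ b ∈ ([23, 0] : List ℕ),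
    b ≠ a ∧ b ≠ negR chevD4 a ∧ a < 24 ∧ b < 24 ∧ D4Data.tab.commT a b = [] := by decide +kernel

theorem negTop : negR chevD4 23 = 0 ∧ negR chevD4 0 = 23 := by decide +kernel

theorem orbS : ∀ i : Fin chevD4.rank, i.val = 1 ∨
    (i ∈ good_D4.oJ D4Tw.orbs ⟨1, by decide⟩ ∧
      (chevD4.simple i = 18 ∨ chevD4.simple i = 13 ∨ chevD4.simple i = 12)) := by
  decide +kernel

theorem simpS : ∀ i : Fin chevD4.rank, i ∈ good_D4.oJ D4Tw.orbs ⟨1, by decide⟩ →
    chevD4.simple i ∈ ([18, 13, 12, 5, 10, 11] : List ℕ) ∧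
      negR chevD4 (chevD4.simple i) ∈ ([18, 13, 12, 5, 10, 11] : List ℕ) := by
  decide +kernel

variable {K : Type*} [Field K] [Fintype K] (C : D4Tw.Ctx K 3)

local notation "X" => good_D4.full.x (F := K)

/-- The element outside `SL₂`. -/
noncomputable def h0 : GL chevD4.Idx K := tor 3 1 (-1)

/-- An element of the coset. -/
noncomputable def E (C : D4Tw.Ctx K 3) (k : SL(2, K)) : GL chevD4.Idx K := phiS C k * h0

include C

theorem three_eq : (3 : K) = 0 := by
  have h : ((Fintype.card K : ℕ) : K) = 0 := FiniteField.cast_card_eq_zero K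
  rw [C.hK] at h
  push_cast at h
  exact eq_zero_of_pow_eq_zero (n := 3) (by norm_num; exact h)

theorem two_ne : (2 : K) ≠ 0 := fun h =>
  one_ne_zero (α := K) (by linear_combination three_eq C - h)

theorem not_square_neg_one : ¬ IsSquare (-1 : K) := by
  rw [FiniteField.isSquare_neg_one_iff, C.hK]
  decide

theorem negone_fixed : (-1 : Kˣ) ^ 3 = -1 := by
  apply Units.ext; push_cast; norm_num

theorem chiS_h0 : chiS (1 : Kˣ) (-1) = -1 := by simp [chiS]

theorem h0_phiS (g : SL(2, K)) : h0 * phiS C g * h0⁻¹ = phiS C (scaleSL (-1 : Kˣ) g) := by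
  have := tor_conj_phiS C (1 : Kˣ) (negone_fixed C) g
  rwa [chiS_h0 C] at this

theorem h0_sq : (h0 : GL chevD4.Idx K) * h0 = 1 := by
  rw [h0, ← tor_mul, one_mul, neg_one_mul, neg_neg, tor_one]

theorem h0_inv : (h0 : GL chevD4.Idx K)⁻¹ = h0 := inv_eq_of_mul_eq_one_right (h0_sq C)

theorem h0_mem : (h0 : GL chevD4.Idx K) ∈ C.Z.H0 := tor_mem C 1 (negone_fixed C)

theorem E_mem (k : SL(2, K)) : E C k ∈ C.Z.G1 :=
  mul_mem (phiS_mem C k) (C.Z.H0_le (h0_mem C))

theorem E_mul (a b : SL(2, K)) : E C a * E C b = phiS C (a * scaleSL (-1 : Kˣ) b) := by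
  rw [E, E, map_mul, ← h0_phiS C b]
  calc phiS C a * h0 * (phiS C b * h0) = phiS C a * (h0 * phiS C b * h0) := by group
    _ = _ := by rw [h0_inv C]

theorem E_conj (l k : SL(2, K)) : phiS C l * E C k * (phiS C l)⁻¹ = E C (tconj l k) := by
  rw [E, E, tconj, map_mul, map_mul, ← h0_phiS C l⁻¹, map_inv]
  calc phiS C l * (phiS C k * h0) * (phiS C l)⁻¹
      = phiS C l * phiS C k * (h0 * (phiS C l)⁻¹ * h0⁻¹) * h0 := by group
    _ = _ := rfl

theorem nonsq {σ : K} (hσ : σ = 1 ∨ σ = -1) : ¬ IsSquare (σ ^ 2 + 4) := by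
  have e : σ ^ 2 + 4 = -1 := by
    rcases hσ with rfl | rfl <;> linear_combination (2 : K) * three_eq C
  rw [e]
  exact not_square_neg_one C

/-- All elements of trace `±1` in the coset are conjugate. -/
theorem E_conj_ref {k : SL(2, K)} (hk : tau k = 1 ∨ tau k = -1) :
    ∃ a ∈ C.Z.G1, E C k = a * E C (kRef 1) * a⁻¹ := by
  rcases hk with hk | hk
  · obtain ⟨l, hl⟩ := exists_tconj (two_ne C) hk (nonsq C (Or.inl rfl))
    exact ⟨_, phiS_mem C l, by rw [E_conj, hl]⟩
  · obtain ⟨ε, hε, hX, hY⟩ := n0_phiS C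
    set k' : SL(2, K) := eL (ε * 1) * RankOne.eX (ε * -1) with hk'
    have e : n0 C * E C (kRef 1) * (n0 C)⁻¹ = E C k' := by
      have ek : (kRef 1 : SL(2, K)) = RankOne.eX 1 * eL (-1) := by
        apply Subtype.ext
        rw [Matrix.SpecialLinearGroup.coe_mul, RankOne.coe_eX, coe_eL]
        ext i j
        fin_cases i <;> fin_cases j <;> simp [kRef, Matrix.mul_apply, Fin.sum_univ_two]
      have eh : n0 C * h0 * (n0 C)⁻¹ = h0 := by
        rw [h0, n0_inv_tor]; simp
      rw [E, E, ek, hk', map_mul, map_mul, ← hX, ← hY]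
      calc n0 C * (phiS C (RankOne.eX 1) * phiS C (eL (-1)) * h0) * (n0 C)⁻¹
          = n0 C * phiS C (RankOne.eX 1) * (n0 C)⁻¹ * (n0 C * phiS C (eL (-1)) * (n0 C)⁻¹) *
              (n0 C * h0 * (n0 C)⁻¹) := by group
        _ = _ := by rw [eh]
    have ht : tau k' = -1 := by
      have e : (k' : Matrix (Fin 2) (Fin 2) K) = !![1, ε * -1; ε, 1 + ε * (ε * -1)] := by
        rw [hk', Matrix.SpecialLinearGroup.coe_mul, RankOne.coe_eX, coe_eL]
        ext i j
        fin_cases i <;> fin_cases j <;> simp [Matrix.mul_apply, Fin.sum_univ_two] <;> ring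
      simp only [tau, e]
      simp
      linear_combination hε
    obtain ⟨l, hl⟩ := exists_tconj (two_ne C) ht (nonsq C (Or.inr rfl))
    obtain ⟨l', hl'⟩ := exists_tconj (two_ne C) hk (nonsq C (Or.inr rfl))
    refine ⟨phiS C l' * (phiS C l)⁻¹ * n0 C,
      mul_mem (mul_mem (phiS_mem C l') (inv_mem (phiS_mem C l))) (n0_mem C), ?_⟩
    rw [show phiS C l' * (phiS C l)⁻¹ * n0 C * E C (kRef 1) *
        (phiS C l' * (phiS C l)⁻¹ * n0 C)⁻¹ =
        phiS C l' * ((phiS C l)⁻¹ * (n0 C * E C (kRef 1) * (n0 C)⁻¹) * phiS C l) *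
          (phiS C l')⁻¹ by group, e]
    conv_rhs => arg 1; arg 2; rw [← hl, ← E_conj]
    rw [show (phiS C l)⁻¹ * (phiS C l * E C (kRef (-1)) * (phiS C l)⁻¹) * phiS C l =
      E C (kRef (-1)) by group, E_conj, hl']

/-! ### Fixed points -/

theorem x_top_comm {b : ℕ} (hb : b ∈ ([23, 0] : List ℕ)) (t : K) (g : SL(2, K)) :
    Commute (phiS C g) (X b t) := by
  have hx : ∀ a ∈ ([18, 13, 12, 5, 10, 11] : List ℕ), ∀ u : K, Commute (X a u) (X b t) := by
    intro a ha u
    obtain ⟨h1, h2, ha', hb', h3⟩ := chkTop a ha b hb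
    have e := good_D4.full.x_comm (F := K) (r := a) (s := b) ha' hb' h1 h2 u t
    rw [good_D4.full.cert.commWord_eq ha' hb', h3] at e
    simp only [rhsWord, List.map_nil, List.prod_nil, mul_one] at e
    exact e.symm
  have hrk : ∀ i : Fin chevD4.rank, i ∈ good_D4.oJ D4Tw.orbs ⟨1, by decide⟩ → ∀ g,
      Commute (rk i g) (X b t) := by
    intro i hi g
    have := good_D4.hom_mem_of_x (F := K) i (K := Subgroup.centralizer {X b t})
      (fun u => Subgroup.mem_centralizer_singleton_iff.mpr (hx _ (simpS i hi).1 u).eq)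
      (fun u => Subgroup.mem_centralizer_singleton_iff.mpr (hx _ (simpS i hi).2 u).eq) g
    exact Subgroup.mem_centralizer_singleton_iff.mp this
  rw [phiS_apply]
  exact (hrk 0 (by decide) g).mul_left
    ((hrk 2 (by decide) _).mul_left (hrk 3 (by decide) _))

theorem E_top (k : SL(2, K)) {b : ℕ} (hb : b ∈ ([23, 0] : List ℕ)) (t : K) :
    E C k * X b t * (E C k)⁻¹ = X b (-t) := by
  have hb' : b < 24 := (chkTop 18 (by decide) b hb).2.2.2.1
  have hchi : D4Data.tab.chi (F := K) b (tc 3 1 (-1)) = -1 := by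
    have h23 : D4Data.tab.chi (F := K) 23 (tc 3 1 (-1)) = -1 := by
      rw [chi_pos (e := ![0, 1, 0, 0]) (by decide)]; simp
    simp only [List.mem_cons, List.not_mem_nil, or_false] at hb
    rcases hb with rfl | rfl
    · exact h23
    · rw [show (0 : ℕ) = negR chevD4 23 from negTop.1.symm, good_D4.chi_negR (by decide), h23]
      simp
  have h1 : h0 * X b t * h0⁻¹ = X b (-t) := by
    rw [h0, tor, good_D4.full.hT_conj hb', hchi]
    simp
  calc E C k * X b t * (E C k)⁻¹ = phiS C k * (h0 * X b t * h0⁻¹) * (phiS C k)⁻¹ := by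
        rw [E]; group
    _ = _ := by rw [h1, (x_top_comm C hb (-t) k).eq, mul_inv_cancel_right]

theorem E_four {k : SL(2, K)} (hk : tau k = 1 ∨ tau k = -1) :
    E C k * E C k * (E C k * E C k) = tor 3 (-1) 1 := by
  rw [E_mul, ← map_mul, ← phiS_eH C]
  congr 1
  apply Subtype.ext
  have hdet := RankOne.det_eq k
  have hk' : (k 1 1 - k 0 0) * (k 1 1 - k 0 0) = 1 := by
    rcases hk with h | h <;> rw [show k 1 1 - k 0 0 = tau k from rfl, h] <;> ring
  have h3 := three_eq C
  rw [Matrix.SpecialLinearGroup.coe_mul, Matrix.SpecialLinearGroup.coe_mul, coe_scale,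
    RankOne.coe_eH]
  ext i j
  fin_cases i <;> fin_cases j <;> simp [Matrix.mul_apply, Fin.sum_univ_two] <;> grobner

theorem n0_top (t : K) : ∃ u, n0 C * X 23 t * (n0 C)⁻¹ = X 0 u := by
  obtain ⟨c, hc⟩ := n0_act C
  have e := (hc ⟨23, by decide⟩).2.2.2 t
  rw [show ((negPerm chevD4) (⟨23, by decide⟩ : Fin chevD4.nroots)).val = 0 from negTop.1] at e
  exact ⟨_, e⟩

/-- Elements with the same fourth power and action on the highest root group act without fixed
points on the radical. -/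
theorem radT_free {y w : GL chevD4.Idx K} (h4 : y * y * (y * y) = tor 3 (-1) 1)
    (htop : ∀ t, y * X 23 t * y⁻¹ = X 23 (-t)) (hw : w ∈ C.Z.radT (JS C)) (hc : y * w = w * y) :
    w = 1 := by
  set S : Set ℕ := {r | IsPos chevD4 r ∧
    ¬ D4Data.tab.InJ (Fin.val '' {i | i ∈ C.Z.orb (JS C)}) r} with hS
  have hw2 : w ∈ good_D4.US K S := by
    have := (Subgroup.mem_inf.mp hw).2
    rwa [good_D4.rad_eq] at this
  have hcc : Commute (y * y * (y * y)) w := by
    have : Commute y w := hc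
    exact ((this.mul_left this).mul_left (this.mul_left this))
  rw [h4] at hcc
  have hfix := (good_D4.fixed_US (good_D4.closed_notInJ _) (tc 3 (-1 : Kˣ) 1) hw2).mp
    (by rw [show D4Data.tab.hT K (tc 3 (-1 : Kˣ) 1) = tor 3 (-1) 1 from rfl, hcc.eq]; group)
  have hsub : {s | s ∈ S ∧ D4Data.tab.chi (F := K) s (tc 3 (-1 : Kˣ) 1) = 1} ⊆ ({23} : Set ℕ) := by
    rintro s ⟨hs, hchi⟩
    have hsimp : ∀ i : Fin chevD4.rank, i ∈ good_D4.oJ D4Tw.orbs ⟨1, by decide⟩ →
        s ≠ chevD4.simple i := fun i hi e =>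
      hs.2 (e ▸ good_D4.inJ_simple.mpr ⟨i, hi, rfl⟩)
    have h12 : 12 ≤ s ∧ s < 24 := by
      have h1 := hs.1.1
      have h2 := hs.1.2
      change s < 24 at h1
      change 24 ≤ 2 * s at h2
      omega
    obtain ⟨h1, h2⟩ := h12
    have hne : (-1 : Kˣ) ≠ 1 := fun h => two_ne C (by
      have := congrArg Units.val h
      push_cast at this
      linear_combination -this)
    have hp : ((-1 : Kˣ) ^ 3) = -1 := negone_fixed C
    have a18 := hsimp 0 (by decide)
    have a13 := hsimp 2 (by decide)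
    have a12 := hsimp 3 (by decide)
    rw [show chevD4.simple ((0 : Fin chevD4.rank) : ℕ) = 18 by decide +kernel] at a18
    rw [show chevD4.simple ((2 : Fin chevD4.rank) : ℕ) = 13 by decide +kernel] at a13
    rw [show chevD4.simple ((3 : Fin chevD4.rank) : ℕ) = 12 by decide +kernel] at a12
    interval_cases s
    · exact absurd rfl a12
    · exact absurd rfl a13
    · rw [chi_pos (e := ![-1, 2, -1, -1]) (by decide)] at hchi; simp [hp] at hchi; exact absurd hchi hne
    · rw [chi_pos (e := ![-1, 1, -1, 1]) (by decide)] at hchi; simp [hp] at hchi; exact absurd hchi hne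
    · rw [chi_pos (e := ![-1, 1, 1, -1]) (by decide)] at hchi; simp [hp] at hchi; exact absurd hchi hne
    · rw [chi_pos (e := ![-1, 0, 1, 1]) (by decide)] at hchi; simp [hp] at hchi; exact absurd hchi hne
    · exact absurd rfl a18
    · rw [chi_pos (e := ![1, 1, -1, -1]) (by decide)] at hchi; simp [hp] at hchi; exact absurd hchi hne
    · rw [chi_pos (e := ![1, 0, -1, 1]) (by decide)] at hchi; simp [hp] at hchi; exact absurd hchi hne
    · rw [chi_pos (e := ![1, 0, 1, -1]) (by decide)] at hchi; simp [hp] at hchi; exact absurd hchi hne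
    · rw [chi_pos (e := ![1, -1, 1, 1]) (by decide)] at hchi; simp [hp] at hchi; exact absurd hchi hne
    · rfl
  have hw3 : w ∈ good_D4.US K ({23} : Set ℕ) := good_D4.US_mono hsub hfix
  obtain ⟨t, rfl⟩ : ∃ t, w = X 23 t := by
    clear hfix hcc hc hw2 hw
    induction hw3 using Subgroup.closure_induction with
    | mem g hg => obtain ⟨r, hr, t, rfl⟩ := hg; rw [Set.mem_singleton_iff.mp hr]; exact ⟨t, rfl⟩
    | one => exact ⟨0, (good_D4.full.x_zero _).symm⟩
    | mul a b _ _ ha hb =>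
      obtain ⟨u, rfl⟩ := ha; obtain ⟨v, rfl⟩ := hb; exact ⟨u + v, good_D4.full.x_add _ _ _⟩
    | inv a _ ha => obtain ⟨u, rfl⟩ := ha; exact ⟨-u, good_D4.full.x_inv _ _⟩
  have e : X 23 (-t) = X 23 t := by rw [← htop t, hc, mul_inv_cancel_right]
  have := good_D4.x_inj (r := 23) (by decide) e
  have ht : t = 0 := (mul_eq_zero.mp (show (2 : K) * t = 0 by linear_combination -this)).resolve_left
    (two_ne C)
  rw [ht, good_D4.full.x_zero]

theorem E_conj_radT (k : SL(2, K)) {w : GL chevD4.Idx K} (hw : w ∈ C.Z.radT (JS C)) :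
    E C k * w * (E C k)⁻¹ ∈ C.Z.radT (JS C) := by
  refine C.Z.parabolic_conj_radT (C.Z.le_fix (E_mem C k)) ?_ hw
  exact mul_mem (phiS_parabolic C k).1
    (Subgroup.mem_sup_left (Subgroup.mem_sup_right (C.Z.H0_diag (h0_mem C))))

theorem E_conj_radV (k : SL(2, K)) {w : GL chevD4.Idx K} (hw : w ∈ C.Z.radV (L C) (JS C)) :
    E C k * w * (E C k)⁻¹ ∈ C.Z.radV (L C) (JS C) := by
  refine C.Z.parabolic_conj_radV (C.Z.le_fix (E_mem C k)) ?_ hw
  have e : (n0 C)⁻¹ * E C k * n0 C =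
      ((n0 C)⁻¹ * phiS C k * n0 C) * ((n0 C)⁻¹ * h0 * n0 C) := by rw [E]; group
  show (n0 C)⁻¹ * E C k * n0 C ∈ _
  rw [e]
  refine mul_mem (phiS_parabolic C k).2 (Subgroup.mem_sup_left (Subgroup.mem_sup_right ?_))
  rw [h0, n0_inv_tor']
  exact C.Z.H0_diag (tor_mem C _ (fixed_inv C (negone_fixed C)))

theorem three : ∃ x ∈ C.Z.G1, x ^ 8 = 1 ∧ ∀ g ∈ C.Z.G1, g ≠ 1 → Cover C x g := by
  have h1 : tau (kRef (1 : K)) = 1 := by simp [tau, kRef]
  refine ⟨E C (kRef 1), E_mem C _, ?_, fun g hg _ => ?_⟩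
  · rw [show (8 : ℕ) = 4 + 4 from rfl, pow_add,
      show E C (kRef 1) ^ 4 = E C (kRef 1) * E C (kRef 1) * (E C (kRef 1) * E C (kRef 1)) by
        simp only [pow_succ, pow_zero, one_mul, mul_assoc],
      E_four C (Or.inl h1), ← tor_mul, neg_one_mul, neg_neg, one_mul, tor_one]
  -- make `B` trivial
  obtain ⟨A, B, hB, hc⟩ := exists_cell C hg
  obtain ⟨A', hc'⟩ : ∃ A', Cell C g A' 1 := by
    rcases (show B = 1 ∨ B = -1 by
      have h := congrArg Units.val hB
      push_cast at h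
      have h' : (B : K) * (B : K) = 1 := mul_left_cancel₀ B.ne_zero (by linear_combination h)
      rcases mul_self_eq_one_iff.mp h' with e | e
      · exact Or.inl (Units.ext e)
      · exact Or.inr (Units.ext (by rw [e]; simp))) with rfl | rfl
    · exact ⟨A, hc⟩
    · have ha : chiS A (-1 : Kˣ) ≠ 1 := fun h => not_square_neg_one C ⟨(A : K), by
        have := congrArg Units.val h
        simp [chiS] at this
        linear_combination this⟩
      refine ⟨-1, (hc.moveS C (negone_fixed C) ha (-1)).moveL C le_rfl (negone_fixed C) ?_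
        (one_pow _)⟩
      intro h
      apply two_ne C
      have := congrArg Units.val h
      simp [chiL, negone_fixed C] at this
      linear_combination -this
  obtain ⟨w, e, y, hy, v, hv, a, ha, eg⟩ := exists_splitS C hc'
  obtain ⟨k1, k2, t1, t2, em⟩ := exists_mid (two_ne C) (eL w * RankOne.eH A' * RankOne.eX e)
  refine Cover.of_conj C hy ?_
  have emid : v * phiS C (eL w) * tor 3 A' 1 * (phiS C (RankOne.eX e) * a) =
      v * (E C k1 * E C k2) * a := by
    rw [E_mul, ← em, map_mul, map_mul, phiS_eH]; group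
  rw [eg, emid]
  refine cover_mid C (C.Z.radV (L C) (JS C)) (C.Z.radT (JS C)) ?_
    ((C.Z.radT_le_U1 _).trans C.Z.U1_le) (E_conj_ref C t1) (E_conj_ref C t2)
    (fun w hw => E_conj_radV C k1 hw) ?_ ?_ ?_ hv ha
  · intro w hw
    have h' := C.Z.U1_le (C.Z.mem_V1.mp (C.Z.radV_le_V1 _ _ hw))
    rw [show w = n0 C * ((n0 C)⁻¹ * w * n0 C) * (n0 C)⁻¹ by group]
    exact mul_mem (mul_mem (n0_mem C) h') (inv_mem (n0_mem C))
  · intro w hw hcw
    have h' : (n0 C)⁻¹ * w * n0 C = 1 := by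
      refine radT_free C (y := (n0 C)⁻¹ * E C k1 * n0 C) ?_ (fun t => ?_) (C.Z.mem_radV.mp hw) ?_
      · rw [show (n0 C)⁻¹ * E C k1 * n0 C * ((n0 C)⁻¹ * E C k1 * n0 C) *
            ((n0 C)⁻¹ * E C k1 * n0 C * ((n0 C)⁻¹ * E C k1 * n0 C)) =
            (n0 C)⁻¹ * (E C k1 * E C k1 * (E C k1 * E C k1)) * n0 C by group, E_four C t1,
          n0_inv_tor']
        simp
      · obtain ⟨u, hu⟩ := n0_top C t
        calc (n0 C)⁻¹ * E C k1 * n0 C * X 23 t * ((n0 C)⁻¹ * E C k1 * n0 C)⁻¹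
            = (n0 C)⁻¹ * (E C k1 * (n0 C * X 23 t * (n0 C)⁻¹) * (E C k1)⁻¹) * n0 C := by group
          _ = (n0 C)⁻¹ * (n0 C * X 23 t * (n0 C)⁻¹)⁻¹ * n0 C := by
            rw [hu, E_top C k1 (by decide), good_D4.full.x_inv]
          _ = (X 23 t)⁻¹ := by group
          _ = _ := good_D4.full.x_inv _ _
      · calc (n0 C)⁻¹ * E C k1 * n0 C * ((n0 C)⁻¹ * w * n0 C)
            = (n0 C)⁻¹ * (E C k1 * w) * n0 C := by group
          _ = _ := by rw [hcw]; group
    calc w = n0 C * ((n0 C)⁻¹ * w * n0 C) * (n0 C)⁻¹ := by group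
      _ = 1 := by rw [h']; group
  · intro w hw
    have hinv : (E C k2)⁻¹ = E C (scaleSL (-1 : Kˣ) k2⁻¹) := by
      refine inv_eq_of_mul_eq_one_right ?_
      rw [E_mul, scale_invol, mul_inv_cancel, map_one]
    have := E_conj_radT C (scaleSL (-1 : Kˣ) k2⁻¹) hw
    rw [← hinv, inv_inv] at this
    exact this
  · exact fun w hw hcw => radT_free C (E_four C t2) (E_top C k2 (by decide)) hw hcw

end CfsgLib.OreD4
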