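import Cfsg.Agent.OreD4.Signs
import Cfsg.Agent.OreD4.Large
import Cfsg.Agent.OreD4.Parity
import Cfsg.Agent.Chev.D4TwCoord
import Cfsg.Agent.Chev.WeaklyClosed

/-!
`³D₄(2)`: coordinates in the radical of the short orbit.
-/

set_option autoImplicit false
set_option linter.style.haveILetI false

namespace CfsgLib.OreD4

open Cfsg.Lie Matrix CfsgLib.Chev CfsgLib.Chev.Tab
open scoped MatrixGroups

/-- The rank is not zero. -/
local instance neZeroRank2 : NeZero chevD4.rank := ⟨by decide⟩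

theorem sgnTwo : ∀ s : Fin 24,
    (sgnW D4Data.tab (flatW D4Tw.orbs (L0.map Fin.val)) s.val).1 = negR chevD4 s.val ∧
      (sgnW D4Data.tab (flatW D4Tw.orbs (L0.map Fin.val)) s.val).2 % 2 = 1 := by
  decide +kernel

theorem sgnN : ∀ p ∈ ([(14, 22), (19, 17), (16, 20), (15, 21), (20, 16), (21, 15), (17, 19),
    (22, 14), (23, 23), (18, 5), (13, 10), (12, 11), (9, 1)] : List (ℕ × ℕ)),
    p.1 < 24 ∧ (sgnW D4Data.tab [0, 2, 3] p.1).1 = p.2 ∧
      (sgnW D4Data.tab [0, 2, 3] p.1).2 % 2 = 1 := by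
  decide +kernel

variable {K : Type*} [Field K] [Fintype K] (C : D4Tw.Ctx K 2)

local notation "X" => good_D4.full.x (F := K)

include C

theorem card8 : Fintype.card K = 8 := by rw [C.hK]; norm_num

theorem neg_self (x : K) : -x = x := by linear_combination -x * eight_zero (card8 C)

theorem add_self' (x : K) : x + x = 0 := add_self (card8 C) x

theorem cast_odd {z : ℤ} (hz : z % 2 = 1) : (z : K) = 1 := by
  obtain ⟨k, rfl⟩ : ∃ k, z = 2 * k + 1 := ⟨z / 2, by omega⟩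
  push_cast
  linear_combination (k : K) * eight_zero (card8 C)

theorem n0_X {s : ℕ} (hs : s < 24) (t : K) :
    n0 C * X s t * (n0 C)⁻¹ = X (negR chevD4 s) t := by
  obtain ⟨h1, h2⟩ := sgnTwo ⟨s, hs⟩
  rw [n0_x C hs, cast_odd C h2, one_mul, h1]

theorem n0_X' {s : ℕ} (hs : s < 24) (t : K) :
    (n0 C)⁻¹ * X s t * n0 C = X (negR chevD4 s) t := by
  have h := n0_X C (Cert.negR_lt (D := chevD4) hs) t
  rw [Cert.negR_negR (D := chevD4) hs] at h
  rw [← h]; group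

/-- The representative of the short reflection. -/
noncomputable def nS (C : D4Tw.Ctx K 2) : GL chevD4.Idx K := phiS C RankOne.eN

theorem nS_X {r r' : ℕ} (h : (r, r') ∈ ([(14, 22), (19, 17), (16, 20), (15, 21), (20, 16),
    (21, 15), (17, 19), (22, 14), (23, 23), (18, 5), (13, 10), (12, 11), (9, 1)] : List (ℕ × ℕ)))
    (t : K) : nS C * X r t * (nS C)⁻¹ = X r' t := by
  have hfr : fr C (RankOne.eN : SL(2, K)) = RankOne.eN := by
    ext i j
    fin_cases i <;> fin_cases j <;> simp [fr, RankOne.coe_eN]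
  have hrk : ∀ i : Fin chevD4.rank, rk i (RankOne.eN : SL(2, K)) = good_D4.full.ns K i := fun i =>
    RankOne.phi_eN _
  have e : nS C = good_D4.full.nw K ([0, 2, 3] : List (Fin chevD4.rank)) := by
    rw [nS, phiS_apply, hfr, hfr, hrk, hrk, hrk, good_D4.nw_eq]
    simp
  obtain ⟨hlt, h1, h2⟩ := sgnN _ h
  have := (nw_conj_sgn good_D4 (F := K) ([0, 2, 3] : List (Fin chevD4.rank)) (s := r) hlt).2 t
  rw [show (([0, 2, 3] : List (Fin chevD4.rank)).map Fin.val) = [0, 2, 3] from rfl] at this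
  rw [e, this, h1, cast_odd C h2, one_mul]

/-! ### Coordinates -/

/-- The coordinate of the long fundamental root. -/
def C14 (u : GL chevD4.Idx K) (t : K) : Prop := ∃ v, u = D4Tw.P12 v ∧ v 0 = t

omit C in
theorem C14.mul {u w : GL chevD4.Idx K} {s t : K} (hu : C14 u s) (hw : C14 w t) :
    C14 (u * w) (s + t) := by
  obtain ⟨a, rfl, rfl⟩ := hu
  obtain ⟨b, rfl, rfl⟩ := hw
  exact ⟨_, D4Tw.P12_mul a b, by simp [D4Tw.p12Mul]⟩

omit C in
theorem C14.unique {u : GL chevD4.Idx K} {s t : K} (hs : C14 u s) (ht : C14 u t) : s = t := by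
  obtain ⟨a, ha, rfl⟩ := hs
  obtain ⟨b, hb, rfl⟩ := ht
  rw [D4Tw.P12_inj (ha.symm.trans hb)]

omit C in
theorem C14_X14 (t : K) : C14 (X 14 t) t :=
  ⟨![t, 0, 0, 0, 0, 0, 0, 0, 0, 0, 0, 0], by simp [D4Tw.P12, good_D4.full.x_zero], rfl⟩

omit C in
theorem coord_zero {S : Set ℕ} (hS : ∀ r ∈ S, IsPos chevD4 r) {u : GL chevD4.Idx K}
    (hu : u ∈ good_D4.US K S) :
    ∃ v, u = D4Tw.P12 v ∧ (14 ∉ S → v 0 = 0) ∧ (18 ∉ S → v 1 = 0) := by
  induction hu using Subgroup.closure_induction with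
  | mem g hg =>
    obtain ⟨r, hr, t, rfl⟩ := hg
    have h1 := (hS r hr).1
    have h2 := (hS r hr).2
    change r < 24 at h1
    change 24 ≤ 2 * r at h2
    have : r = 14 ∨ r = 18 ∨ r = 13 ∨ r = 12 ∨ r = 19 ∨ r = 16 ∨ r = 15 ∨ r = 20 ∨ r = 21 ∨
        r = 17 ∨ r = 22 ∨ r = 23 := by omega
    rcases this with rfl | rfl | rfl | rfl | rfl | rfl | rfl | rfl | rfl | rfl | rfl | rfl
    exacts [⟨![t, 0, 0, 0, 0, 0, 0, 0, 0, 0, 0, 0], by simp [D4Tw.P12, good_D4.full.x_zero], fun h => absurd hr h, fun _ => rfl⟩,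
      ⟨![0, t, 0, 0, 0, 0, 0, 0, 0, 0, 0, 0], by simp [D4Tw.P12, good_D4.full.x_zero], fun _ => rfl, fun h => absurd hr h⟩,
      ⟨![0, 0, t, 0, 0, 0, 0, 0, 0, 0, 0, 0], by simp [D4Tw.P12, good_D4.full.x_zero], fun _ => rfl, fun _ => rfl⟩,
      ⟨![0, 0, 0, t, 0, 0, 0, 0, 0, 0, 0, 0], by simp [D4Tw.P12, good_D4.full.x_zero], fun _ => rfl, fun _ => rfl⟩,
      ⟨![0, 0, 0, 0, t, 0, 0, 0, 0, 0, 0, 0], by simp [D4Tw.P12, good_D4.full.x_zero], fun _ => rfl, fun _ => rfl⟩,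
      ⟨![0, 0, 0, 0, 0, t, 0, 0, 0, 0, 0, 0], by simp [D4Tw.P12, good_D4.full.x_zero], fun _ => rfl, fun _ => rfl⟩,
      ⟨![0, 0, 0, 0, 0, 0, t, 0, 0, 0, 0, 0], by simp [D4Tw.P12, good_D4.full.x_zero], fun _ => rfl, fun _ => rfl⟩,
      ⟨![0, 0, 0, 0, 0, 0, 0, t, 0, 0, 0, 0], by simp [D4Tw.P12, good_D4.full.x_zero], fun _ => rfl, fun _ => rfl⟩,
      ⟨![0, 0, 0, 0, 0, 0, 0, 0, t, 0, 0, 0], by simp [D4Tw.P12, good_D4.full.x_zero], fun _ => rfl, fun _ => rfl⟩,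
      ⟨![0, 0, 0, 0, 0, 0, 0, 0, 0, t, 0, 0], by simp [D4Tw.P12, good_D4.full.x_zero], fun _ => rfl, fun _ => rfl⟩,
      ⟨![0, 0, 0, 0, 0, 0, 0, 0, 0, 0, t, 0], by simp [D4Tw.P12, good_D4.full.x_zero], fun _ => rfl, fun _ => rfl⟩,
      ⟨![0, 0, 0, 0, 0, 0, 0, 0, 0, 0, 0, t], by simp [D4Tw.P12, good_D4.full.x_zero], fun _ => rfl, fun _ => rfl⟩]
  | one => exact ⟨0, D4Tw.P12_zero.symm, fun _ => rfl, fun _ => rfl⟩
  | mul a b _ _ ha hb =>
    obtain ⟨v, rfl, hv0, hv1⟩ := ha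
    obtain ⟨w, rfl, hw0, hw1⟩ := hb
    exact ⟨_, D4Tw.P12_mul v w, fun h => by simp [D4Tw.p12Mul, hv0 h, hw0 h],
      fun h => by simp [D4Tw.p12Mul, hv1 h, hw1 h]⟩
  | inv a _ ha =>
    obtain ⟨v, rfl, hv0, hv1⟩ := ha
    obtain ⟨w, hw⟩ := D4Tw.P12_surj (inv_mem (D4Tw.P12_mem v))
    have e : D4Tw.p12Mul v w = 0 := D4Tw.P12_inj (by
      rw [← D4Tw.P12_mul, ← hw, mul_inv_cancel, D4Tw.P12_zero])
    exact ⟨w, hw, fun h => by simpa [D4Tw.p12Mul, hv0 h] using congrFun e 0,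
      fun h => by simpa [D4Tw.p12Mul, hv1 h] using congrFun e 1⟩

theorem radT_JS_coord {u : GL chevD4.Idx K} (hu : u ∈ C.Z.radT (JS C)) :
    ∃ a c d e f, C.φ a = a ∧ C.φ e = e ∧ C.φ f = f ∧ u = C.UC a 0 c d e f := by
  obtain ⟨a, b, c, d, e, f, ha, he, hf, rfl⟩ := C.mem_U1.mp (C.Z.radT_le_U1 _ hu)
  have h2 := (Subgroup.mem_inf.mp hu).2
  rw [good_D4.rad_eq] at h2
  obtain ⟨v, hv, -, hv1⟩ := coord_zero (S := _) (fun r hr => hr.1) h2
  have e1 := congrFun (D4Tw.P12_inj hv) 1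
  rw [hv1 fun h => h.2 ((by decide +kernel : chevD4.simple ((0 : Fin chevD4.rank) : ℕ) = 18) ▸
    good_D4.inJ_simple.mpr ⟨(0 : Fin chevD4.rank), List.mem_cons_self .., rfl⟩)] at e1
  obtain rfl : b = 0 := e1
  exact ⟨a, c, d, e, f, ha, he, hf, rfl⟩

theorem radT_JL_coord {u : GL chevD4.Idx K} (hu : u ∈ C.Z.radT (JL C)) : C14 u 0 := by
  have h2 := (Subgroup.mem_inf.mp hu).2
  rw [good_D4.rad_eq] at h2
  obtain ⟨v, hv, hv0, -⟩ := coord_zero (S := _) (fun r hr => hr.1) h2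
  exact ⟨v, hv, hv0 fun h => h.2 ((by decide +kernel :
    chevD4.simple ((1 : Fin chevD4.rank) : ℕ) = 14) ▸
    good_D4.inJ_simple.mpr ⟨(1 : Fin chevD4.rank), List.mem_cons_self .., rfl⟩)⟩

theorem phiS_eX_UC (s : K) : phiS C (RankOne.eX s) = C.UC 0 s 0 0 0 0 := by
  rw [phiS_eX]
  show ([(18, s), (13, s ^ 2), (12, (s ^ 2) ^ 2)].map fun p => X p.1 p.2).prod = _
  simp [D4Tw.Ctx.UC, D4Tw.P12, good_D4.full.x_zero, C.hφ]

theorem eX_inv (s : K) : (phiS C (RankOne.eX s))⁻¹ = phiS C (RankOne.eX s) := by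
  refine inv_eq_of_mul_eq_one_right ?_
  rw [← map_mul]
  have : RankOne.eX s * RankOne.eX s = (1 : SL(2, K)) := by
    apply Subtype.ext
    rw [Matrix.SpecialLinearGroup.coe_mul, RankOne.coe_eX]
    ext i j
    fin_cases i <;> fin_cases j <;> simp [Matrix.mul_apply, Fin.sum_univ_two, add_self' C]
  rw [this, map_one]

theorem C14_eX (s : K) : C14 (phiS C (RankOne.eX s)) 0 := ⟨_, phiS_eX_UC C s, rfl⟩

theorem C14_conj_eX {u : GL chevD4.Idx K} {t : K} (h : C14 u t) (s : K) :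
    C14 (phiS C (RankOne.eX s) * u * (phiS C (RankOne.eX s))⁻¹) t := by
  have := ((C14_eX C s).mul h).mul (C14_eX C s)
  rw [zero_add, add_zero] at this
  rwa [eX_inv C s]

omit C in
theorem hT_conj_P12 (c : Fin chevD4.rank → Kˣ) (v : Fin 12 → K) :
    D4Data.tab.hT K c * D4Tw.P12 v * (D4Data.tab.hT K c)⁻¹ = D4Tw.P12 (fun i =>
      ((D4Data.tab.chi (F := K) (([14, 18, 13, 12, 19, 16, 15, 20, 21, 17, 22, 23] : List ℕ).getD
        i.val 0) c : Kˣ) : K) * v i) := by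
  have e : ∀ a b h : GL chevD4.Idx K, h * (a * b) * h⁻¹ = h * a * h⁻¹ * (h * b * h⁻¹) :=
    fun a b h => by group
  simp only [D4Tw.P12, e]
  rw [good_D4.full.hT_conj (by decide), good_D4.full.hT_conj (by decide),
    good_D4.full.hT_conj (by decide), good_D4.full.hT_conj (by decide),
    good_D4.full.hT_conj (by decide), good_D4.full.hT_conj (by decide),
    good_D4.full.hT_conj (by decide), good_D4.full.hT_conj (by decide),
    good_D4.full.hT_conj (by decide), good_D4.full.hT_conj (by decide),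
    good_D4.full.hT_conj (by decide), good_D4.full.hT_conj (by decide)]
  rfl

theorem chiL_one (A : Kˣ) : chiL 2 A 1 = 1 := by
  have h : A ^ 7 = 1 := Units.ext (by
    rw [Units.val_pow_eq_pow_val]; exact pow7 (card8 C) A.ne_zero)
  rw [chiL, one_pow, one_mul, inv_eq_one, ← h, ← pow_mul, ← pow_succ', ← pow_add]

theorem C14_conj_eH {u : GL chevD4.Idx K} {t : K} (h : C14 u t) (z : Kˣ) :
    C14 (phiS C (RankOne.eH z) * u * (phiS C (RankOne.eH z))⁻¹) t := by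
  obtain ⟨v, rfl, rfl⟩ := h
  refine ⟨_, by rw [phiS_eH, tor]; exact hT_conj_P12 _ v, ?_⟩
  show ((D4Data.tab.chi (F := K) 14 (tc 2 z 1) : Kˣ) : K) * v 0 = v 0
  rw [show (14 : ℕ) = chevD4.simple ((1 : Fin chevD4.rank) : ℕ) by decide +kernel,
    (chi_tc (q := 2) z 1).1, chiL_one C, Units.val_one, one_mul]

theorem X_UC (a e f c d : K) :
    X 14 a = C.UC a 0 0 0 0 0 ∧ X 22 e = C.UC 0 0 0 0 e 0 ∧ X 23 f = C.UC 0 0 0 0 0 f ∧
    X 17 c * X 20 (C.φ c) * X 21 (C.φ (C.φ c)) = C.UC 0 0 0 (C.φ c) 0 0 ∧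
    X 16 d * X 15 (C.φ d) * X 19 (C.φ (C.φ d)) = C.UC 0 0 (C.φ (C.φ d)) 0 0 0 := by
  refine ⟨?_, ?_, ?_, ?_, ?_⟩ <;>
    simp [D4Tw.Ctx.UC, D4Tw.P12, good_D4.full.x_zero, C.φ_cube, neg_self C]
  · -- order of the root elements of `2a+b`
    refine mul_right_cancel (b := 1) ?_
    simp only [mul_assoc, D4Tw.s_17_20, D4Tw.s_17_21]
  · refine mul_right_cancel (b := 1) ?_
    simp only [mul_assoc, D4Tw.s_16_19, D4Tw.s_15_19]

/-- Conjugation by the short reflection in coordinates. -/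
theorem nS_conj_UC (a c d : K) {e : K} (he : C.φ e = e) (f : K) : ∃ f', nS C * C.UC a 0 c d e f * (nS C)⁻¹ =
    C.UC e 0 (C.φ (C.φ d)) (C.φ c) a f' := by
  have e0 : C.UC a 0 c d e f = X 14 a * (X 19 c * X 16 (C.φ c) * X 15 (C.φ (C.φ c))) *
      (X 20 d * X 21 (C.φ d) * X 17 (C.φ (C.φ d))) * X 22 e * X 23 f := by
    simp [D4Tw.Ctx.UC, D4Tw.P12, good_D4.full.x_zero, neg_self C, mul_assoc]
  rw [e0]
  set n := nS C
  have e1 : n * (X 14 a * (X 19 c * X 16 (C.φ c) * X 15 (C.φ (C.φ c))) *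
      (X 20 d * X 21 (C.φ d) * X 17 (C.φ (C.φ d))) * X 22 e * X 23 f) * n⁻¹ =
      (n * X 14 a * n⁻¹) * ((n * X 19 c * n⁻¹) * (n * X 16 (C.φ c) * n⁻¹) *
        (n * X 15 (C.φ (C.φ c)) * n⁻¹)) * ((n * X 20 d * n⁻¹) * (n * X 21 (C.φ d) * n⁻¹) *
        (n * X 17 (C.φ (C.φ d)) * n⁻¹)) * (n * X 22 e * n⁻¹) * (n * X 23 f * n⁻¹) := by group
  rw [e1]
  simp only [n]
  rw [nS_X C (r := 14) (r' := 22) (by decide), nS_X C (r := 19) (r' := 17) (by decide),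
    nS_X C (r := 16) (r' := 20) (by decide), nS_X C (r := 15) (r' := 21) (by decide),
    nS_X C (r := 20) (r' := 16) (by decide), nS_X C (r := 21) (r' := 15) (by decide),
    nS_X C (r := 17) (r' := 19) (by decide), nS_X C (r := 22) (r' := 14) (by decide),
    nS_X C (r := 23) (r' := 23) (by decide)]
  obtain ⟨h14, h22, h23, h2a, hab⟩ := X_UC C e a f c d
  rw [h14, h22, h23, h2a, hab]
  rw [C.UC_mul (by simp), C.UC_mul (by simp), C.UC_mul he, C.UC_mul (by simp)]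
  simp [D4Tw.Ctx.mulD, D4Tw.Ctx.mulE]

end CfsgLib.OreD4
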