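import Cfsg.Agent.OreD4.TwoBasic

/-!
`³D₄(2)`: the long coordinate after conjugating by the short rank one group.
-/

set_option autoImplicit false
set_option linter.style.haveILetI false

namespace CfsgLib.OreD4

open Cfsg.Lie Matrix CfsgLib.Chev CfsgLib.Chev.Tab
open scoped MatrixGroups

variable {K : Type*} [Field K] [Fintype K] (C : D4Tw.Ctx K 2)

local notation "X" => good_D4.full.x (F := K)

include C

theorem eN_sq : (RankOne.eN : SL(2, K)) * RankOne.eN = 1 := by
  apply Subtype.ext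
  rw [Matrix.SpecialLinearGroup.coe_mul, RankOne.coe_eN]
  ext i j
  fin_cases i <;> fin_cases j <;> simp [Matrix.mul_apply, Fin.sum_univ_two, neg_self C]

theorem nS_inv : (nS C)⁻¹ = nS C := by
  refine inv_eq_of_mul_eq_one_right ?_
  rw [nS, ← map_mul, eN_sq C, map_one]

theorem eL_eq (y : K) : eL y = RankOne.eN * RankOne.eX y * (RankOne.eN : SL(2, K)) := by
  apply Subtype.ext
  rw [Matrix.SpecialLinearGroup.coe_mul, Matrix.SpecialLinearGroup.coe_mul, RankOne.coe_eN,
    RankOne.coe_eX, coe_eL]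
  ext i j
  fin_cases i <;> fin_cases j <;> simp [Matrix.mul_apply, Fin.sum_univ_two, neg_self C]

theorem C14_conj_eL {a c d e f : K} (hu : C.UC a 0 c d e f ∈ C.Z.radT (JS C))
    (he : C.φ e = e) (y : K) :
    C14 (phiS C (eL y) * C.UC a 0 c d e f * (phiS C (eL y))⁻¹)
      (a + e * y ^ 7 + tr3 (c * y) + tr3 (d * y ^ 5)) := by
  obtain ⟨f', hW⟩ := nS_conj_UC C a c d he f
  have hWm : C.UC e 0 (C.φ (C.φ d)) (C.φ c) a f' ∈ C.Z.radT (JS C) := by
    rw [← hW]; exact phiS_conj_radT C _ hu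
  have hZm := phiS_conj_radT C (RankOne.eX y) hWm
  obtain ⟨A, Cc, Dd, E, F, hA, hE, hF, eZ⟩ := radT_JS_coord C hZm
  have hprod := eZ
  rw [eX_inv C, phiS_eX_UC, C.UC_mul he, C.UC_mul (by simp)] at hprod
  obtain ⟨-, -, -, -, eE, -⟩ := C.UC_inj hprod
  obtain ⟨f'', hfin⟩ := nS_conj_UC C A Cc Dd hE F
  have hconj : phiS C (eL y) * C.UC a 0 c d e f * (phiS C (eL y))⁻¹ =
      C.UC E 0 (C.φ (C.φ Dd)) (C.φ Cc) A f'' := by
    rw [← hfin, ← eZ, ← hW, eL_eq C, map_mul, map_mul]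
    simp only [nS, _root_.mul_inv_rev, mul_assoc]
  rw [hconj]
  refine ⟨_, rfl, ?_⟩
  show E = _
  rw [← eE]
  have h2 := eight_zero (card8 C)
  have h8 := pow8 (card8 C) y
  simp only [D4Tw.Ctx.mulD, D4Tw.Ctx.mulE, tr3, C.hφ, map_zero, zero_add, add_zero]
  have hc8 := pow8 (card8 C) c
  have hd8 := pow8 (card8 C) d
  ring_nf
  grobner

/-- The long coordinate after a conjugation. -/
theorem C14_conj {a c d e f : K} (hu : C.UC a 0 c d e f ∈ C.Z.radT (JS C)) (he : C.φ e = e)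
    (l : SL(2, K)) :
    C14 (phiS C l * C.UC a 0 c d e f * (phiS C l)⁻¹) (PF a c d e (l 1 0) (l 1 1)) := by
  have hdet := RankOne.det_eq l
  have h2 := eight_zero (card8 C)
  have key : ∀ (k : SL(2, K)) (s : K) (t : Kˣ) (r : SL(2, K)),
      k = RankOne.eX s * RankOne.eH t * r → ∀ v, C14 (phiS C r * C.UC a 0 c d e f * (phiS C r)⁻¹) v →
      C14 (phiS C k * C.UC a 0 c d e f * (phiS C k)⁻¹) v := by
    intro k s t r hk v hv
    have := C14_conj_eX C (C14_conj_eH C hv t) s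
    rw [hk, map_mul, map_mul]
    simpa [mul_assoc] using this
  by_cases h11 : l 1 1 = 0
  · have h10 : l 1 0 ≠ 0 := fun h => by
      rw [h11, h] at hdet
      simp at hdet
    have hb : l 0 1 = (l 1 0)⁻¹ := by
      rw [h11] at hdet
      field_simp
      linear_combination -hdet - h2
    refine key l (l 0 0 * (l 1 0)⁻¹) (Units.mk0 _ h10)⁻¹ RankOne.eN ?_ _ ?_
    · apply Subtype.ext
      rw [Matrix.SpecialLinearGroup.coe_mul, Matrix.SpecialLinearGroup.coe_mul, RankOne.coe_eX,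
        RankOne.coe_eH, RankOne.coe_eN]
      ext i j
      fin_cases i <;> fin_cases j <;>
        simp [Matrix.mul_apply, Fin.sum_univ_two, h11, hb, neg_self C]
      field_simp
    · obtain ⟨f', hW⟩ := nS_conj_UC C a c d he f
      refine ⟨_, hW, ?_⟩
      show e = _
      simp [PF, tr3, h11, pow7 (card8 C) h10]
  · refine key l (l 0 1 * (l 1 1)⁻¹) (Units.mk0 _ h11)⁻¹ (eL (l 1 0 * (l 1 1)⁻¹)) ?_ _ ?_
    · apply Subtype.ext
      rw [Matrix.SpecialLinearGroup.coe_mul, Matrix.SpecialLinearGroup.coe_mul, RankOne.coe_eX,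
        RankOne.coe_eH, coe_eL]
      ext i j
      fin_cases i <;> fin_cases j <;> simp [Matrix.mul_apply, Fin.sum_univ_two] <;> field_simp
      linear_combination hdet
    · convert C14_conj_eL C hu he (l 1 0 * (l 1 1)⁻¹) using 1
      have h7 := pow7 (card8 C) h11
      have hi : (l 1 1)⁻¹ = (l 1 1) ^ 6 :=
        inv_eq_of_mul_eq_one_right (by rw [← pow_succ']; exact h7)
      unfold PF tr3
      rw [hi]
      have e1 : (l 1 1 ^ 6) ^ 7 = 1 := by rw [← pow_mul, show 6 * 7 = 7 * 6 from rfl, pow_mul, h7, one_pow]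
      have e2 : (l 1 1 ^ 6) ^ 5 = l 1 1 ^ 2 := by
        rw [← pow_mul, show 6 * 5 = 7 * 4 + 2 from rfl, pow_add, pow_mul, h7, one_pow, one_mul]
      simp only [mul_pow, e1, e2, h7]
      ring

/-- The longest element and the short reflection agree on the short rank one group. -/
theorem n0_conj_phiS (g : SL(2, K)) : (n0 C)⁻¹ * phiS C g * n0 C = nS C * phiS C g * (nS C)⁻¹ := by
  have h : (MulAut.conj (n0 C)⁻¹).toMonoidHom.comp (phiS C) =
      (MulAut.conj (nS C)).toMonoidHom.comp (phiS C) := by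
    refine sl2_hom_ext (fun t => ?_) (fun t => ?_)
    · simp only [MonoidHom.comp_apply, MulEquiv.coe_toMonoidHom, MulAut.conj_apply, inv_inv]
      rw [nS_inv C]
      unfold nS
      rw [← map_mul, ← map_mul, ← eL_eq C]
      rw [phiS_eX, phiS_eL]
      show (n0 C)⁻¹ * ([(18, t), (13, t ^ 2), (12, (t ^ 2) ^ 2)].map fun p => X p.1 p.2).prod *
        n0 C = ([(5, t), (10, t ^ 2), (11, (t ^ 2) ^ 2)].map fun p => X p.1 p.2).prod
      simp only [List.map_cons, List.map_nil, List.prod_cons, List.prod_nil, mul_one]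
      calc (n0 C)⁻¹ * (X 18 t * (X 13 (t ^ 2) * X 12 ((t ^ 2) ^ 2))) * n0 C
          = (n0 C)⁻¹ * X 18 t * n0 C * ((n0 C)⁻¹ * X 13 (t ^ 2) * n0 C *
              ((n0 C)⁻¹ * X 12 ((t ^ 2) ^ 2) * n0 C)) := by group
        _ = _ := by
          rw [n0_X' C (by norm_num), n0_X' C (by norm_num), n0_X' C (by norm_num)]
          rfl
    · simp only [MonoidHom.comp_apply, MulEquiv.coe_toMonoidHom, MulAut.conj_apply, inv_inv]
      rw [nS_inv C]
      unfold nS
      rw [← map_mul, ← map_mul, eL_eq C, show RankOne.eN * (RankOne.eN * RankOne.eX t * RankOne.eN) *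
        RankOne.eN = (RankOne.eX t : SL(2, K)) by
          rw [show RankOne.eN * (RankOne.eN * RankOne.eX t * RankOne.eN) * RankOne.eN =
            (RankOne.eN * RankOne.eN) * RankOne.eX t * ((RankOne.eN : SL(2, K)) * RankOne.eN) by
              group, eN_sq C, one_mul, mul_one], ← eL_eq C]
      rw [phiS_eX, phiS_eL]
      show (n0 C)⁻¹ * ([(5, t), (10, t ^ 2), (11, (t ^ 2) ^ 2)].map fun p => X p.1 p.2).prod *
        n0 C = ([(18, t), (13, t ^ 2), (12, (t ^ 2) ^ 2)].map fun p => X p.1 p.2).prod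
      simp only [List.map_cons, List.map_nil, List.prod_cons, List.prod_nil, mul_one]
      calc (n0 C)⁻¹ * (X 5 t * (X 10 (t ^ 2) * X 11 ((t ^ 2) ^ 2))) * n0 C
          = (n0 C)⁻¹ * X 5 t * n0 C * ((n0 C)⁻¹ * X 10 (t ^ 2) * n0 C *
              ((n0 C)⁻¹ * X 11 ((t ^ 2) ^ 2) * n0 C)) := by group
        _ = _ := by
          rw [n0_X' C (by norm_num), n0_X' C (by norm_num), n0_X' C (by norm_num)]
          rfl
  exact DFunLike.congr_fun h g

/-- The long coordinate on the opposite side after a conjugation. -/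
theorem C14_conj_neg {V : GL chevD4.Idx K} {a c d e f : K} (hV : (n0 C)⁻¹ * V * n0 C = C.UC a 0 c d e f)
    (hu : C.UC a 0 c d e f ∈ C.Z.radT (JS C)) (he : C.φ e = e) (l : SL(2, K)) :
    C14 ((n0 C)⁻¹ * (phiS C l * V * (phiS C l)⁻¹) * n0 C) (PF a c d e (l 0 1) (l 0 0)) := by
  set l' : SL(2, K) := RankOne.eN * l * RankOne.eN⁻¹ with hl'
  have hn : (n0 C)⁻¹ * phiS C l * n0 C = phiS C l' := by
    rw [n0_conj_phiS, hl', map_mul, map_mul, map_inv]; rfl
  have e1 : (n0 C)⁻¹ * (phiS C l * V * (phiS C l)⁻¹) * n0 C =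
      phiS C l' * C.UC a 0 c d e f * (phiS C l')⁻¹ := by
    rw [← hn, ← hV]; group
  rw [e1]
  have hc : l' 1 0 = l 0 1 ∧ l' 1 1 = l 0 0 := by
    have : (l' : Matrix (Fin 2) (Fin 2) K) = !![l 1 1, -l 1 0; -l 0 1, l 0 0] := by
      rw [hl', Matrix.SpecialLinearGroup.coe_mul, Matrix.SpecialLinearGroup.coe_mul,
        Matrix.SpecialLinearGroup.coe_inv, RankOne.coe_eN, Matrix.adjugate_fin_two]
      ext i j
      fin_cases i <;> fin_cases j <;>
        simp [Matrix.mul_apply, Fin.sum_univ_two, Matrix.vecMul, dotProduct]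
    simp [this, neg_self C]
  rw [← hc.1, ← hc.2]
  exact C14_conj C hu he l'

end CfsgLib.OreD4
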