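import Cfsg.Agent.OreD4.TwoConj
import Cfsg.Agent.OreD4.LongA2

/-!
`³D₄(2)`: the elements of the long root subgroups, and the element of order 21.
-/

set_option autoImplicit false
set_option linter.style.haveILetI false

namespace CfsgLib.OreD4

open Cfsg.Lie Matrix CfsgLib.Chev CfsgLib.Chev.Tab
open scoped MatrixGroups

theorem chkRelTab : ∀ p ∈ ([(22, 14, 23), (1, 9, 0), (9, 23, 22), (1, 23, 14), (14, 0, 1),
    (22, 0, 9)] : List (ℕ × ℕ × ℕ)),
    p.1 < 24 ∧ p.2.1 < 24 ∧ p.2.1 ≠ p.1 ∧ p.2.1 ≠ negR chevD4 p.1 ∧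
      (D4Data.tab.commT p.1 p.2.1).all (fun c => decide (c.1 = p.2.2 ∧ c.2.1 % 2 = 1)) = true ∧
      (D4Data.tab.commT p.1 p.2.1).length = 1 := by
  decide +kernel

theorem chkCommTab : ∀ p ∈ ([(14, 23), (22, 23), (9, 0), (1, 0), (14, 1), (22, 9)] : List (ℕ × ℕ)),
    p.1 < 24 ∧ p.2 < 24 ∧ p.2 ≠ p.1 ∧ p.2 ≠ negR chevD4 p.1 ∧ D4Data.tab.commT p.1 p.2 = [] := by
  decide +kernel

theorem negLong : negR chevD4 14 = 9 ∧ negR chevD4 22 = 1 ∧ negR chevD4 23 = 0 ∧
    negR chevD4 9 = 14 := by decide +kernel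

/-- The rank is not zero. -/
local instance neZeroRank3 : NeZero chevD4.rank := ⟨by decide⟩

variable {K : Type*} [Field K] [Fintype K] (C : D4Tw.Ctx K 2)

local notation "X" => good_D4.full.x (F := K)

/-- The element of order three. -/
def W (C : D4Tw.Ctx K 2) : SL(2, Kq C) := eL 1 * RankOne.eX 1

/-- An element of the long Levi subgroup. -/
noncomputable def EL (C : D4Tw.Ctx K 2) (g : SL(2, Kq C)) (A : Kˣ) : GL chevD4.Idx K :=
  phiL C g * tor 2 A 1

include C

theorem kq_two : (2 : Kq C) = 0 := Subtype.ext (by push_cast; exact eight_zero (card8 C))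

theorem kq_bit (t : Kq C) : t = 0 ∨ t = 1 := by
  have h : (t : K) ^ 2 = t := (mem_Kq C).mp t.2
  rcases mul_eq_zero.mp (show (t : K) * ((t : K) - 1) = 0 by linear_combination h) with e | e
  · exact Or.inl (Subtype.ext e)
  · exact Or.inr (Subtype.ext (by push_cast; exact sub_eq_zero.mp e))

theorem rel_x {r s k : ℕ} (h : (r, s, k) ∈ ([(22, 14, 23), (1, 9, 0), (9, 23, 22), (1, 23, 14),
    (14, 0, 1), (22, 0, 9)] : List (ℕ × ℕ × ℕ))) :
    X s 1 * X r 1 = X r 1 * X s 1 * X k 1 := by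
  obtain ⟨hr, hs, h1, h2, h3, h4⟩ := chkRelTab _ h
  obtain ⟨c, hc⟩ := List.length_eq_one_iff.mp h4
  rw [hc] at h3
  simp only [List.all_cons, List.all_nil, Bool.and_true, decide_eq_true_eq] at h3
  have e := good_D4.full.x_comm (F := K) (r := r) (s := s) hr hs h1 h2 1 1
  rw [good_D4.full.cert.commWord_eq hr hs, hc] at e
  obtain ⟨ck, cz, ci, cj⟩ := c
  obtain ⟨rfl, hodd⟩ := h3
  simp only [rhsWord, List.map_cons, List.map_nil, List.prod_cons, List.prod_nil, mul_one,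
    one_pow] at e
  rw [e, cast_odd C hodd]
  congr 2
  simp [neg_self C]

theorem comm_x {r s : ℕ} (h : (r, s) ∈ ([(14, 23), (22, 23), (9, 0), (1, 0), (14, 1), (22, 9)] :
    List (ℕ × ℕ))) (t u : K) : X r t * X s u = X s u * X r t := by
  obtain ⟨hr, hs, h1, h2, h3⟩ := chkCommTab _ h
  have e := good_D4.full.x_comm (F := K) (r := r) (s := s) hr hs h1 h2 t u
  rw [good_D4.full.cert.commWord_eq hr hs, h3] at e
  simp only [rhsWord, List.map_nil, List.prod_nil, mul_one] at e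
  exact e.symm

theorem x_invol (r : ℕ) : X r 1 * X r 1 = 1 := by
  rw [good_D4.full.x_add, add_self' C, good_D4.full.x_zero]

theorem phiL_gen (t : Kq C) :
    phiL C (RankOne.eX t) = X 14 (t : K) ∧ phiL C (eL t) = X 9 (t : K) := by
  refine ⟨?_, ?_⟩
  · rw [phiL_eX]
    show ([(14, (t : K))].map fun p => X p.1 p.2).prod = _
    simp
  · rw [phiL_eL]
    show ([(9, (t : K))].map fun p => X p.1 p.2).prod = _
    simp

theorem braid : X 14 1 * X 9 1 * X 14 1 = X 9 1 * X 14 1 * X 9 1 := by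
  have e1 := (phiL_gen C 1).1
  have e2 := (phiL_gen C 1).2
  push_cast at e1 e2
  rw [← e1, ← e2, ← map_mul, ← map_mul, ← map_mul, ← map_mul]
  congr 1
  apply Subtype.ext
  simp only [Matrix.SpecialLinearGroup.coe_mul, RankOne.coe_eX, coe_eL]
  haveI : CharP (Kq C) 2 := CharTwo.of_one_ne_zero_of_two_eq_zero one_ne_zero (kq_two C)
  ext i j
  fin_cases i <;> fin_cases j <;>
    simp [Matrix.mul_apply, Fin.sum_univ_two, CharTwo.add_self_eq_zero]

theorem longRel : A2Rel (X 14 1) (X 22 1) (X 23 1) (X 9 1) (X 1 1) (X 0 1) where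
  ix1 := x_invol C 14
  ix2 := x_invol C 22
  ix3 := x_invol C 23
  iy1 := x_invol C 9
  iy2 := x_invol C 1
  iy3 := x_invol C 0
  x12 := by rw [rel_x C (r := 22) (s := 14) (k := 23) (by decide)]
  x13 := comm_x C (by decide) 1 1
  x23 := comm_x C (by decide) 1 1
  y12 := by rw [rel_x C (r := 1) (s := 9) (k := 0) (by decide)]
  y13 := comm_x C (by decide) 1 1
  y23 := comm_x C (by decide) 1 1
  c12 := comm_x C (by decide) 1 1
  c21 := comm_x C (by decide) 1 1
  x3y1 := rel_x C (r := 9) (s := 23) (k := 22) (by decide)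
  x3y2 := rel_x C (r := 1) (s := 23) (k := 14) (by decide)
  y3x1 := rel_x C (r := 14) (s := 0) (k := 1) (by decide)
  y3x2 := rel_x C (r := 22) (s := 0) (k := 9) (by decide)
  br1 := braid C
  br2 := by
    have e1 := nS_X C (r := 14) (r' := 22) (by decide) 1
    have e2 := nS_X C (r := 9) (r' := 1) (by decide) 1
    have h := congrArg (fun z => nS C * z * (nS C)⁻¹) (braid C)
    rw [← e1, ← e2]
    calc _ = nS C * (X 14 1 * X 9 1 * X 14 1) * (nS C)⁻¹ := by group
      _ = nS C * (X 9 1 * X 14 1 * X 9 1) * (nS C)⁻¹ := h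
      _ = _ := by group

/-! ### The element of order 21 -/

theorem tor_phiL_comm (A : Kˣ) (g : SL(2, Kq C)) :
    Commute (tor 2 A 1) (phiL C g) := by
  have h := tor_conj_phiL C A (B := 1) 1 (by rw [chiL_one C]; simp) g
  have e : scaleSL (1 : (Kq C)ˣ) g = g := by
    apply Subtype.ext
    rw [coe_scaleSL]
    ext i j
    fin_cases i <;> fin_cases j <;> simp
  rw [e] at h
  exact mul_inv_eq_iff_eq_mul.mp h

theorem EL_mul (g h : SL(2, Kq C)) (A B : Kˣ) : EL C g A * EL C h B = EL C (g * h) (A * B) := by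
  rw [EL, EL, EL, map_mul, show tor 2 (A * B) (1 : Kˣ) = tor 2 A 1 * tor 2 B 1 by
    rw [← tor_mul, mul_one]]
  calc phiL C g * tor 2 A 1 * (phiL C h * tor 2 B 1)
      = phiL C g * (tor 2 A 1 * phiL C h) * tor 2 B 1 := by group
    _ = _ := by rw [(tor_phiL_comm C A h).eq]; group

theorem EL_mem (g : SL(2, Kq C)) (A : Kˣ) : EL C g A ∈ C.Z.G1 :=
  mul_mem (phiL_mem C g) (C.Z.H0_le (tor_mem C A (one_pow _)))

theorem W_facts : W C * W C = (W C)⁻¹ ∧
    RankOne.eX (1 : Kq C) * eL 1 = (W C)⁻¹ ∧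
    (RankOne.eX (1 : Kq C) * eL 1 * RankOne.eX 1) * W C *
      (RankOne.eX (1 : Kq C) * eL 1 * RankOne.eX 1)⁻¹ = (W C)⁻¹ := by
  haveI : CharP (Kq C) 2 := CharTwo.of_one_ne_zero_of_two_eq_zero one_ne_zero (kq_two C)
  refine ⟨?_, ?_, ?_⟩ <;> apply Subtype.ext <;>
    simp only [W, Matrix.SpecialLinearGroup.coe_mul, Matrix.SpecialLinearGroup.coe_inv,
      RankOne.coe_eX, coe_eL] <;>
    ext i j <;> fin_cases i <;> fin_cases j <;>
    simp [Matrix.mul_apply, Fin.sum_univ_two, Matrix.adjugate_fin_two, CharTwo.add_self_eq_zero,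
      CharTwo.neg_eq]

theorem n0_phiL (t : Kq C) : n0 C * phiL C (RankOne.eX t) * (n0 C)⁻¹ = phiL C (eL t) ∧
    n0 C * phiL C (eL t) * (n0 C)⁻¹ = phiL C (RankOne.eX t) := by
  rw [(phiL_gen C t).1, (phiL_gen C t).2, n0_X C (by norm_num), n0_X C (by norm_num), negLong.1,
    negLong.2.2.2]
  exact ⟨rfl, rfl⟩

theorem n0_EL_W (A : Kˣ) : n0 C * EL C (W C) A * (n0 C)⁻¹ = EL C (W C)⁻¹ A⁻¹ := by
  have ht : n0 C * tor 2 A 1 * (n0 C)⁻¹ = tor 2 A⁻¹ 1 := by rw [n0_inv_tor, inv_one]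
  rw [← (W_facts C).2.1, EL, EL, W, map_mul, map_mul]
  calc n0 C * (phiL C (eL 1) * phiL C (RankOne.eX 1) * tor 2 A 1) * (n0 C)⁻¹
      = n0 C * phiL C (eL 1) * (n0 C)⁻¹ * (n0 C * phiL C (RankOne.eX 1) * (n0 C)⁻¹) *
          (n0 C * tor 2 A 1 * (n0 C)⁻¹) := by group
    _ = _ := by rw [(n0_phiL C 1).1, (n0_phiL C 1).2, ht]

theorem EL_inv (g : SL(2, Kq C)) (A : Kˣ) : (EL C g A)⁻¹ = EL C g⁻¹ A⁻¹ := by
  refine inv_eq_of_mul_eq_one_right ?_
  rw [EL_mul, mul_inv_cancel, mul_inv_cancel, EL, map_one, tor_one, one_mul]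

theorem n0'_EL {g : SL(2, Kq C)} (hg : g = W C ∨ g = (W C)⁻¹) (A : Kˣ) :
    (n0 C)⁻¹ * EL C g A * n0 C = EL C g⁻¹ A⁻¹ := by
  rcases hg with rfl | rfl
  · have := congrArg (fun z => (n0 C)⁻¹ * z * n0 C) (congrArg (·⁻¹) (n0_EL_W C A))
    simp only [_root_.mul_inv_rev, inv_inv, EL_inv] at this
    rw [← this]
    group
  · have := congrArg (fun z => (n0 C)⁻¹ * z * n0 C) (n0_EL_W C A⁻¹)
    simp only [inv_inv] at this
    rw [inv_inv, ← this]
    group

/-- The four conjugates. -/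
theorem EL_conj (A : Kˣ) {g : SL(2, Kq C)} (hg : g = W C ∨ g = (W C)⁻¹) {B : Kˣ}
    (hB : B = A ∨ B = A⁻¹) : ∃ a ∈ C.Z.G1, EL C g B = a * EL C (W C) A * a⁻¹ := by
  set J : SL(2, Kq C) := RankOne.eX (1 : Kq C) * eL 1 * RankOne.eX 1 with hJ
  have hj : ∀ (h : SL(2, Kq C)) (D : Kˣ),
      phiL C J * EL C h D * (phiL C J)⁻¹ = EL C (J * h * J⁻¹) D := by
    intro h D
    rw [EL, EL, map_mul (phiL C) (J * h), map_mul (phiL C) J h, map_inv]
    calc phiL C J * (phiL C h * tor 2 D 1) * (phiL C J)⁻¹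
        = phiL C J * phiL C h * ((phiL C J)⁻¹ * (phiL C J * tor 2 D 1)) * (phiL C J)⁻¹ := by group
      _ = _ := by rw [← (tor_phiL_comm C D J).eq]; group
  have e3 : J * W C * J⁻¹ = (W C)⁻¹ := (W_facts C).2.2
  have e4 : J * (W C)⁻¹ * J⁻¹ = W C := by
    have := congrArg (·⁻¹) e3
    simp only [_root_.mul_inv_rev, inv_inv, mul_assoc] at this ⊢
    exact this
  rcases hg with rfl | rfl <;> rcases hB with rfl | rfl
  · exact ⟨1, one_mem _, by group⟩
  · refine ⟨phiL C J * n0 C, mul_mem (phiL_mem C _) (n0_mem C), ?_⟩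
    calc EL C (W C) A⁻¹ = phiL C J * EL C (W C)⁻¹ A⁻¹ * (phiL C J)⁻¹ := by rw [hj, e4]
      _ = _ := by rw [← n0_EL_W]; group
  · exact ⟨phiL C J, phiL_mem C _, by rw [hj, e3]⟩
  · exact ⟨n0 C, n0_mem C, (n0_EL_W C A).symm⟩

theorem X_long_UC (s t : K) : X 22 s * X 23 t = C.UC 0 0 0 0 s t := by
  simp [D4Tw.Ctx.UC, D4Tw.P12, good_D4.full.x_zero]

theorem EL_free {g : SL(2, Kq C)} (hg : g = W C ∨ g = (W C)⁻¹) {A : Kˣ} (hA : A ≠ 1)
    {w : GL chevD4.Idx K} (hw : w ∈ C.Z.radT (JL C)) (hc : EL C g A * w = w * EL C g A) :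
    w = 1 := by
  have hA7 : A ^ 7 = 1 := Units.ext (by
    rw [Units.val_pow_eq_pow_val]; exact pow7 (card8 C) A.ne_zero)
  have hA3 : A ^ 3 ≠ 1 := fun h => hA (by
    rw [show (7 : ℕ) = 3 * 2 + 1 from rfl, pow_succ, pow_mul, h, one_pow, one_mul] at hA7
    exact hA7)
  have hW3 : g * g * g = 1 := by
    rcases hg with rfl | rfl
    · rw [(W_facts C).1, inv_mul_cancel]
    · rw [← _root_.mul_inv_rev, (W_facts C).1, inv_inv, mul_inv_cancel]
  have hcA : Commute (tor 2 (A ^ 3) 1) w := by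
    have e : EL C g A * EL C g A * EL C g A = tor 2 (A ^ 3) 1 := by
      rw [EL_mul, EL_mul, hW3, EL, map_one, one_mul, pow_succ, pow_two]
    rw [← e]
    have hc' : Commute (EL C g A) w := hc
    exact (hc'.mul_left hc').mul_left hc'
  set S : Set ℕ := {r | IsPos chevD4 r ∧
    ¬ D4Data.tab.InJ (Fin.val '' {i | i ∈ C.Z.orb (JL C)}) r}
  have hw2 : w ∈ good_D4.US K S := by
    have := (Subgroup.mem_inf.mp hw).2
    rwa [good_D4.rad_eq] at this
  have hfix := (good_D4.fixed_US (good_D4.closed_notInJ _) (tc 2 (A ^ 3) 1) hw2).mp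
    (by rw [show D4Data.tab.hT K (tc 2 (A ^ 3) (1 : Kˣ)) = tor 2 (A ^ 3) 1 from rfl, hcA.eq]; group)
  have hB7 : (A ^ 3) ^ 7 = 1 := by rw [← pow_mul, mul_comm, pow_mul, hA7, one_pow]
  set B := A ^ 3 with hB
  have hsub : {s | s ∈ S ∧ D4Data.tab.chi (F := K) s (tc 2 B (1 : Kˣ)) = 1} ⊆
      ({22, 23} : Set ℕ) := by
    rintro s ⟨hs, hchi⟩
    have a14 : s ≠ 14 := fun e => hs.2 (by
      rw [e, show (14 : ℕ) = chevD4.simple ((1 : Fin chevD4.rank) : ℕ) by decide +kernel]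
      exact good_D4.inJ_simple.mpr ⟨1, List.mem_cons_self .., rfl⟩)
    have h12 : 12 ≤ s ∧ s < 24 := by
      have h1 := hs.1.1
      have h2 := hs.1.2
      change s < 24 at h1
      change 24 ≤ 2 * s at h2
      omega
    obtain ⟨h1, h2⟩ := h12
    have kill : ∀ (n : ℤ), (n % 7 ≠ 0) → B ^ n ≠ 1 := by
      intro n hn h
      have hd : ((orderOf B : ℕ) : ℤ) ∣ n := orderOf_dvd_iff_zpow_eq_one.mpr h
      have h7 : orderOf B = 7 := by
        rcases (Nat.prime_seven.eq_one_or_self_of_dvd _ (orderOf_dvd_of_pow_eq_one hB7)) with e | e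
        · exact absurd (orderOf_eq_one_iff.mp e) hA3
        · exact e
      rw [h7] at hd
      omega
    have ev : ∀ e : Fin 4 → ℤ, B ^ e 0 * (1 : Kˣ) ^ e 1 * (B ^ 2) ^ e 2 * ((B ^ 2) ^ 2) ^ e 3 =
        B ^ (e 0 + 2 * e 2 + 4 * e 3) := by
      intro e
      rw [_root_.one_zpow, mul_one, _root_.zpow_add, _root_.zpow_add, _root_.zpow_mul,
        _root_.zpow_mul]
      norm_num [← pow_mul]
    interval_cases s
    · rw [chi_pos (e := ![0, -1, 0, 2]) (by decide), ev] at hchi; exact absurd hchi (kill _ (by decide))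
    · rw [chi_pos (e := ![0, -1, 2, 0]) (by decide), ev] at hchi; exact absurd hchi (kill _ (by decide))
    · exact absurd rfl a14
    · rw [chi_pos (e := ![-1, 1, -1, 1]) (by decide), ev] at hchi; exact absurd hchi (kill _ (by decide))
    · rw [chi_pos (e := ![-1, 1, 1, -1]) (by decide), ev] at hchi; exact absurd hchi (kill _ (by decide))
    · rw [chi_pos (e := ![-1, 0, 1, 1]) (by decide), ev] at hchi; exact absurd hchi (kill _ (by decide))
    · rw [chi_pos (e := ![2, -1, 0, 0]) (by decide), ev] at hchi; exact absurd hchi (kill _ (by decide))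
    · rw [chi_pos (e := ![1, 1, -1, -1]) (by decide), ev] at hchi; exact absurd hchi (kill _ (by decide))
    · rw [chi_pos (e := ![1, 0, -1, 1]) (by decide), ev] at hchi; exact absurd hchi (kill _ (by decide))
    · rw [chi_pos (e := ![1, 0, 1, -1]) (by decide), ev] at hchi; exact absurd hchi (kill _ (by decide))
    · left; rfl
    · right; rfl
  have hw3 : w ∈ good_D4.US K ({22, 23} : Set ℕ) := good_D4.US_mono hsub hfix
  obtain ⟨s, t, rfl⟩ : ∃ s t, w = X 22 s * X 23 t := by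
    clear hfix hcA hc hw2 hw
    induction hw3 using Subgroup.closure_induction with
    | mem a ha =>
      obtain ⟨r, hr, u, rfl⟩ := ha
      rcases hr with rfl | rfl
      · exact ⟨u, 0, by rw [good_D4.full.x_zero, mul_one]⟩
      · exact ⟨0, u, by rw [good_D4.full.x_zero, one_mul]⟩
    | one => exact ⟨0, 0, by simp [good_D4.full.x_zero]⟩
    | mul a b _ _ ha hb =>
      obtain ⟨s, t, rfl⟩ := ha
      obtain ⟨s', t', rfl⟩ := hb
      refine ⟨s + s', t + t', ?_⟩
      rw [← good_D4.full.x_add, ← good_D4.full.x_add]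
      calc X 22 s * X 23 t * (X 22 s' * X 23 t') = X 22 s * (X 23 t * X 22 s') * X 23 t' := by group
        _ = _ := by rw [← comm_x C (r := 22) (s := 23) (by decide)]; group
    | inv a _ ha =>
      obtain ⟨s, t, rfl⟩ := ha
      refine ⟨-s, -t, ?_⟩
      rw [_root_.mul_inv_rev, good_D4.full.x_inv, good_D4.full.x_inv]
      exact (comm_x C (r := 22) (s := 23) (by decide) _ _).symm
  -- the torus part acts trivially
  have htor : Commute (tor 2 A 1) (X 22 s * X 23 t) := by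
    have h22 : D4Data.tab.chi (F := K) 22 (tc 2 A (1 : Kˣ)) = 1 ∧
        D4Data.tab.chi (F := K) 23 (tc 2 A (1 : Kˣ)) = 1 := by
      rw [chi_pos (e := ![1, -1, 1, 1]) (by decide), chi_pos (e := ![0, 1, 0, 0]) (by decide)]
      refine ⟨?_, by simp⟩
      simp only [Matrix.cons_val_zero, Matrix.cons_val_one, Matrix.cons_val, _root_.zpow_one,
        _root_.one_zpow, mul_one]
      rw [← hA7, ← pow_mul, ← pow_succ', ← pow_add]
    have one_x : ∀ r : ℕ, r < 24 → D4Data.tab.chi (F := K) r (tc 2 A (1 : Kˣ)) = 1 → ∀ u,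
        Commute (tor 2 A 1) (X r u) := by
      intro r hr hch u
      have := good_D4.full.hT_conj (F := K) hr (tc 2 A 1) u
      rw [hch, Units.val_one, one_mul] at this
      exact mul_inv_eq_iff_eq_mul.mp this
    exact (one_x 22 (by norm_num) h22.1 s).mul_right (one_x 23 (by norm_num) h22.2 t)
  have hg' : Commute (phiL C g) (X 22 s * X 23 t) := by
    have hc' : Commute (EL C g A) (X 22 s * X 23 t) := hc
    have := hc'.mul_left (htor.inv_left)
    rwa [EL, mul_inv_cancel_right] at this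
  have hW : Commute (phiL C (W C)) (X 22 s * X 23 t) := by
    rcases hg with rfl | rfl
    · exact hg'
    · have := hg'.inv_left
      rwa [map_inv, inv_inv] at this
  have hX : ∀ u, X 14 1 * X 22 u * (X 14 1)⁻¹ = X 22 u * X 23 u := by
    intro u
    have h := D4Tw.m_22_14 (K := K) 1 u 1
    rw [mul_one, mul_one] at h
    have h' : X 22 u * X 14 1 = X 14 1 * (X 22 u * X 23 u) := by
      rw [h]; congr 2; simp [neg_self C]
    have e14 : (X 14 (1 : K))⁻¹ = X 14 1 := inv_eq_of_mul_eq_one_right (x_invol C 14)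
    rw [e14, mul_assoc, h', ← mul_assoc, x_invol C, one_mul]
  have hY : ∀ u, X 9 1 * X 23 u * (X 9 1)⁻¹ = X 23 u * X 22 u := by
    intro u
    obtain ⟨hr, hs, h1, h2, h3, h4⟩ := chkRelTab (9, 23, 22) (by decide)
    obtain ⟨c, hc⟩ := List.length_eq_one_iff.mp h4
    rw [hc] at h3
    simp only [List.all_cons, List.all_nil, Bool.and_true, decide_eq_true_eq] at h3
    have e := good_D4.full.x_comm (F := K) (r := 9) (s := 23) hr hs h1 h2 1 u
    rw [good_D4.full.cert.commWord_eq hr hs, hc] at e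
    obtain ⟨ck, cz, ci, cj⟩ := c
    obtain ⟨rfl, hodd⟩ := h3
    have hij : ∀ d ∈ D4Data.tab.commT 9 23, d.2.2 = (1, 1) := by decide +kernel
    have hij' := hij _ (by rw [hc]; exact List.mem_singleton_self _)
    simp only [Prod.mk.injEq] at hij'
    obtain ⟨rfl, rfl⟩ := hij'
    simp only [rhsWord, List.map_cons, List.map_nil, List.prod_cons, List.prod_nil, mul_one] at e
    simp only [cast_odd C hodd, pow_one, one_mul, neg_self C] at e
    have e9 : (X 9 (1 : K))⁻¹ = X 9 1 := inv_eq_of_mul_eq_one_right (x_invol C 9)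
    rw [e9, mul_assoc, e, ← mul_assoc, ← mul_assoc, x_invol C, one_mul]
  have e : phiL C (W C) * (X 22 s * X 23 t) * (phiL C (W C))⁻¹ = X 22 t * X 23 (s + t) := by
    have hC14 : X 14 1 * X 23 t * (X 14 1)⁻¹ = X 23 t := by
      rw [comm_x C (r := 14) (s := 23) (by decide)]; group
    have hC9 : X 9 1 * X 22 s * (X 9 1)⁻¹ = X 22 s := by
      rw [← comm_x C (r := 22) (s := 9) (by decide)]; group
    rw [W, map_mul, (phiL_gen C 1).1, (phiL_gen C 1).2]
    push_cast
    calc X 9 1 * X 14 1 * (X 22 s * X 23 t) * (X 9 1 * X 14 1)⁻¹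
        = X 9 1 * ((X 14 1 * X 22 s * (X 14 1)⁻¹) * (X 14 1 * X 23 t * (X 14 1)⁻¹)) * (X 9 1)⁻¹ := by
          group
      _ = X 9 1 * X 22 s * (X 9 1)⁻¹ * (X 9 1 * X 23 (s + t) * (X 9 1)⁻¹) := by
          rw [hX, hC14, ← good_D4.full.x_add]; group
      _ = X 22 s * (X 23 (s + t) * X 22 (s + t)) := by rw [hC9, hY]
      _ = X 22 s * X 22 (s + t) * X 23 (s + t) := by
          rw [← comm_x C (r := 22) (s := 23) (by decide), mul_assoc]
      _ = _ := by rw [good_D4.full.x_add, ← add_assoc, add_self' C, zero_add]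
  rw [hW.eq, mul_inv_cancel_right, X_long_UC C, X_long_UC C] at e
  obtain ⟨-, -, -, -, h1, h2⟩ := C.UC_inj e
  rw [← h1] at h2
  have hs : s = 0 := by
    have : s + s = s := by rw [h1] at h2 ⊢; exact h2.symm
    exact add_eq_left.mp this
  rw [hs] at h1
  rw [hs, ← h1, good_D4.full.x_zero, good_D4.full.x_zero, one_mul]

theorem EL_conj_radT (g : SL(2, Kq C)) (A : Kˣ) {w : GL chevD4.Idx K}
    (hw : w ∈ C.Z.radT (JL C)) : EL C g A * w * (EL C g A)⁻¹ ∈ C.Z.radT (JL C) := by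
  refine C.Z.parabolic_conj_radT (C.Z.le_fix (EL_mem C g A)) ?_ hw
  exact mul_mem (phiL_parabolic C g).1
    (Subgroup.mem_sup_left (Subgroup.mem_sup_right (C.Z.H0_diag (tor_mem C A (one_pow _)))))

end CfsgLib.OreD4
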