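import Cfsg.Agent.OreD4.TwoLong

/-!
`³D₄(2)`: every element is a product of two conjugates of an element of order 21.
-/

set_option autoImplicit false
set_option linter.style.haveILetI false
set_option linter.unusedSectionVars false

namespace CfsgLib.OreD4

open Cfsg.Lie Matrix CfsgLib.Chev CfsgLib.Chev.Tab
open scoped MatrixGroups

theorem negLong' : negR chevD4 9 = 14 ∧ negR chevD4 1 = 22 ∧ negR chevD4 0 = 23 := by
  decide +kernel

theorem corLong : (∀ r ∈ ([14, 22, 23] : List ℕ), r < 24 ∧ 24 ≤ 2 * r ∧ D4Data.tab.cor r 1 ≠ 0) ∧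
    ∀ i ∈ good_D4.oJ D4Tw.orbs ⟨1, by decide⟩, i.val ≠ 1 := by
  decide +kernel

/-- The rank is not zero. -/
local instance neZeroRank4 : NeZero chevD4.rank := ⟨by decide⟩

/-- There are orbits. -/
local instance neZeroOrbs4 : NeZero D4Tw.orbs.length := ⟨by decide⟩

variable {K : Type*} [Field K] [Fintype K] (C : D4Tw.Ctx K 2)

local notation "X" => good_D4.full.x (F := K)

/-- Conjugate to `v h u` with torus part a product of two conjugates of the torus part of the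
element of order 21 and equal long coordinates on both sides. -/
def Fine (C : D4Tw.Ctx K 2) (A : Kˣ) (g : GL chevD4.Idx K) : Prop :=
  ∃ y ∈ C.Z.G1, ∃ v ∈ C.Z.V1 (L C), ∃ u ∈ C.Z.U1, ∃ A0 : Kˣ,
    (A0 = 1 ∨ A0 = A * A ∨ A0 = (A * A)⁻¹) ∧
    ∃ t, C14 ((n0 C)⁻¹ * v * n0 C) t ∧ C14 u t ∧ y * g * y⁻¹ = v * tor 2 A0 1 * u

include C

theorem Fine.of_conj {A : Kˣ} {g y : GL chevD4.Idx K} (hy : y ∈ C.Z.G1)
    (h : Fine C A (y * g * y⁻¹)) : Fine C A g := by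
  obtain ⟨z, hz, rest⟩ := h
  refine ⟨z * y, mul_mem hz hy, ?_⟩
  rw [show z * y * g * (z * y)⁻¹ = z * (y * g * y⁻¹) * z⁻¹ by group]
  exact rest

theorem radV_le_G1 (J : Fin C.Z.nJ) : C.Z.radV (L C) J ≤ C.Z.G1 := fun w hw => by
  have h' := C.Z.U1_le (C.Z.mem_V1.mp (C.Z.radV_le_V1 _ _ hw))
  rw [show w = n0 C * ((n0 C)⁻¹ * w * n0 C) * (n0 C)⁻¹ by group]
  exact mul_mem (mul_mem (n0_mem C) h') (inv_mem (n0_mem C))

theorem EL_conj_radV {g : SL(2, Kq C)} (hg : g = W C ∨ g = (W C)⁻¹) (A : Kˣ)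
    {w : GL chevD4.Idx K} (hw : w ∈ C.Z.radV (L C) (JL C)) :
    EL C g A * w * (EL C g A)⁻¹ ∈ C.Z.radV (L C) (JL C) := by
  refine C.Z.parabolic_conj_radV (C.Z.le_fix (EL_mem C g A)) ?_ hw
  show (n0 C)⁻¹ * EL C g A * n0 C ∈ _
  rw [n0'_EL C hg]
  exact mul_mem (phiL_parabolic C g⁻¹).1
    (Subgroup.mem_sup_left (Subgroup.mem_sup_right (C.Z.H0_diag (tor_mem C A⁻¹ (one_pow _)))))

theorem Fine.cover {A : Kˣ} (hA : A ≠ 1) {g : GL chevD4.Idx K} (h : Fine C A g) :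
    Cover C (EL C (W C) A) g := by
  obtain ⟨y, hy, v, hv, u, hu, A0, hA0, t, htv, htu, eg⟩ := h
  refine Cover.of_conj C hy ?_
  obtain ⟨Va, hVa, b', hb', rfl⟩ := C.Z.V1_split (L C) (JL C) hv
  obtain ⟨a, ha, b, hb, rfl⟩ := C.Z.U1_split (JL C) hu
  rw [show C.Z.nT (L C) = n0 C from rfl] at htv eg
  obtain ⟨s', rfl⟩ := XJ_L C hb'
  obtain ⟨s, rfl⟩ := XJ_L C hb
  have e1 : (s : K) = t := by
    refine C14.unique ?_ htu
    have := (radT_JL_coord C ha).mul (C14_X14 (s : K))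
    rwa [zero_add, ← (phiL_gen C s).1] at this
  have e2 : (s' : K) = t := by
    refine C14.unique ?_ htv
    rw [show (n0 C)⁻¹ * (Va * (n0 C * phiL C (RankOne.eX s') * (n0 C)⁻¹)) * n0 C =
      (n0 C)⁻¹ * Va * n0 C * phiL C (RankOne.eX s') by group]
    have := (radT_JL_coord C (C.Z.mem_radV.mp hVa)).mul (C14_X14 (s' : K))
    rwa [zero_add, ← (phiL_gen C s').1] at this
  obtain rfl : s = s' := Subtype.ext (e1.trans e2.symm)
  rw [(n0_phiL C s).1] at eg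
  obtain ⟨g1, g2, hg1, hg2, ee⟩ : ∃ g1 g2, (g1 = W C ∨ g1 = (W C)⁻¹) ∧
      (g2 = W C ∨ g2 = (W C)⁻¹) ∧ g1 * g2 = eL s * RankOne.eX s := by
    rcases kq_bit C s with rfl | rfl
    · refine ⟨_, _, Or.inl rfl, Or.inr rfl, ?_⟩
      rw [mul_inv_cancel]
      apply Subtype.ext
      rw [Matrix.SpecialLinearGroup.coe_mul, coe_eL, RankOne.coe_eX]
      ext i j
      fin_cases i <;> fin_cases j <;> simp [Matrix.mul_apply, Fin.sum_univ_two]
    · refine ⟨_, _, Or.inr rfl, Or.inr rfl, ?_⟩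
      rw [← _root_.mul_inv_rev, (W_facts C).1, inv_inv]
      rfl
  obtain ⟨A1, A2, hA1, hA2, eA⟩ : ∃ A1 A2, (A1 = A ∨ A1 = A⁻¹) ∧ (A2 = A ∨ A2 = A⁻¹) ∧
      A1 * A2 = A0 := by
    rcases hA0 with rfl | rfl | rfl
    · exact ⟨_, _, Or.inl rfl, Or.inr rfl, mul_inv_cancel A⟩
    · exact ⟨_, _, Or.inl rfl, Or.inl rfl, rfl⟩
    · exact ⟨_, _, Or.inr rfl, Or.inr rfl, (_root_.mul_inv_rev A A).symm⟩
  have hne : ∀ {B : Kˣ}, (B = A ∨ B = A⁻¹) → B ≠ 1 := by
    rintro B (rfl | rfl)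
    · exact hA
    · exact fun h => hA (inv_eq_one.mp h)
  have hinvW : ∀ {k : SL(2, Kq C)}, (k = W C ∨ k = (W C)⁻¹) → (k⁻¹ = W C ∨ k⁻¹ = (W C)⁻¹) := by
    rintro k (rfl | rfl)
    · exact Or.inr rfl
    · exact Or.inl (inv_inv _)
  have e : Va * phiL C (eL s) * tor 2 A0 1 * (a * phiL C (RankOne.eX s)) =
      Va * (EL C g1 A1 * EL C g2 A2) *
        (phiL C (RankOne.eX s)⁻¹ * a * (phiL C (RankOne.eX s)⁻¹)⁻¹) := by
    rw [EL_mul, eA, ee, EL, map_mul, map_inv, inv_inv]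
    calc Va * phiL C (eL s) * tor 2 A0 1 * (a * phiL C (RankOne.eX s))
        = Va * phiL C (eL s) * (tor 2 A0 1 * phiL C (RankOne.eX s)) *
            ((phiL C (RankOne.eX s))⁻¹ * a * phiL C (RankOne.eX s)) := by group
      _ = _ := by rw [(tor_phiL_comm C A0 _).eq]; group
  rw [eg, e]
  refine cover_mid C (C.Z.radV (L C) (JL C)) (C.Z.radT (JL C)) (radV_le_G1 C _)
    ((C.Z.radT_le_U1 _).trans C.Z.U1_le) (EL_conj C A hg1 hA1) (EL_conj C A hg2 hA2)
    (fun w hw => EL_conj_radV C hg1 A1 hw) ?_ ?_ (fun w hw hc => EL_free C hg2 (hne hA2) hw hc)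
    hVa (phiL_conj_radT C _ ha)
  · intro w hw hc
    have hi : A1⁻¹ ≠ 1 := fun h => hne hA1 (inv_eq_one.mp h)
    have h' := EL_free C (hinvW hg1) hi (C.Z.mem_radV.mp hw) (by
      rw [← n0'_EL C hg1, show C.Z.nT (L C) = n0 C from rfl]
      calc (n0 C)⁻¹ * EL C g1 A1 * n0 C * ((n0 C)⁻¹ * w * n0 C)
          = (n0 C)⁻¹ * (EL C g1 A1 * w) * n0 C := by group
        _ = _ := by rw [hc]; group)
    rw [show C.Z.nT (L C) = n0 C from rfl] at h'
    calc w = n0 C * ((n0 C)⁻¹ * w * n0 C) * (n0 C)⁻¹ := by group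
      _ = 1 := by rw [h']; group
  · intro w hw
    have := EL_conj_radT C g2⁻¹ A2⁻¹ hw
    rwa [← EL_inv, inv_inv] at this

theorem ldu (n : SL(2, K)) {t : Kˣ} (e00 : n 0 0 = (t : K)) :
    n = eL (n 1 0 / t) * RankOne.eH t * RankOne.eX (n 0 1 / t) := by
  have hdet := RankOne.det_eq n
  rw [e00] at hdet
  apply Subtype.ext
  show (n : Matrix (Fin 2) (Fin 2) K) = !![1, 0; n 1 0 / (t : K), 1] *
    !![(t : K), 0; 0, ((t⁻¹ : Kˣ) : K)] * !![1, n 0 1 / (t : K); 0, 1]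
  ext x y
  fin_cases x <;> fin_cases y <;> simp [Matrix.mul_apply, Fin.sum_univ_two, e00] <;> field_simp
  linear_combination hdet

theorem C14_n0_eL (w : K) : C14 ((n0 C)⁻¹ * phiS C (eL w) * n0 C) 0 := by
  rw [n0_conj_phiS C, nS_inv C]
  unfold nS
  rw [← map_mul, ← map_mul, eL_eq C, show RankOne.eN * (RankOne.eN * RankOne.eX w * RankOne.eN) *
    RankOne.eN = ((RankOne.eN : SL(2, K)) * RankOne.eN) * RankOne.eX w *
      ((RankOne.eN : SL(2, K)) * RankOne.eN) by group, eN_sq C, one_mul, mul_one]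
  exact C14_eX C w

theorem fine_of_Mv {A : Kˣ} {v : GL chevD4.Idx K} {α c d ε f α' c' d' ε' f' : K}
    (hv : v ∈ C.Z.radV (L C) (JS C)) (ha : C.UC α 0 c d ε f ∈ C.Z.radT (JS C))
    (ev : (n0 C)⁻¹ * v * n0 C = C.UC α' 0 c' d' ε' f') (hε : C.φ ε = ε) (hε' : C.φ ε' = ε')
    (m : SL(2, K)) (h : Mv ((A * A : Kˣ) : K) α c d ε α' c' d' ε' m) :
    Fine C A (v * phiS C m * C.UC α 0 c d ε f) := by
  obtain ⟨l, ht, hpar⟩ := h
  set n := l * m * l⁻¹ with hn
  obtain ⟨A0, hA0, e00⟩ : ∃ A0 : Kˣ, (A0 = 1 ∨ A0 = A * A ∨ A0 = (A * A)⁻¹) ∧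
      n 0 0 = (A0 : K) := by
    rcases ht with h | h | h
    · exact ⟨1, Or.inl rfl, by rw [h, Units.val_one]⟩
    · exact ⟨_, Or.inr (Or.inl rfl), h⟩
    · exact ⟨_, Or.inr (Or.inr rfl), by rw [h, Units.val_inv_eq_inv_val]⟩
  have ev' : (C.Z.nT (L C))⁻¹ * v * C.Z.nT (L C) = C.UC α' 0 c' d' ε' f' := ev
  have hu' : C.UC α' 0 c' d' ε' f' ∈ C.Z.radT (JS C) := ev' ▸ C.Z.mem_radV.mp hv
  have ep : PF α' c' d' ε' (l 0 1) (l 0 0) = PF α c d ε (l 1 0) (l 1 1) := by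
    linear_combination hpar - PF α c d ε (l 1 0) (l 1 1) * eight_zero (card8 C)
  refine ⟨phiS C l, phiS_mem C l, phiS C l * v * (phiS C l)⁻¹ * phiS C (eL (n 1 0 / A0)),
    mul_mem (C.Z.radV_le_V1 _ _ (phiS_conj_radV C l hv)) (phiS_eL_mem_V1 C _),
    phiS C (RankOne.eX (n 0 1 / A0)) * (phiS C l * C.UC α 0 c d ε f * (phiS C l)⁻¹),
    mul_mem ?_ (C.Z.radT_le_U1 _ (phiS_conj_radT C l ha)), A0, hA0,
    PF α c d ε (l 1 0) (l 1 1), ?_, ?_, ?_⟩
  · rw [phiS_eX]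
    exact C.Z.XJ_le_U1 (JS C) (C.A.mem_XJ.mpr ⟨_, C.tup_three (J := 1) rfl _, rfl⟩)
  · rw [show (n0 C)⁻¹ * (phiS C l * v * (phiS C l)⁻¹ * phiS C (eL (n 1 0 / A0))) * n0 C =
      (n0 C)⁻¹ * (phiS C l * v * (phiS C l)⁻¹) * n0 C *
        ((n0 C)⁻¹ * phiS C (eL (n 1 0 / A0)) * n0 C) by group]
    have := (C14_conj_neg C ev hu' hε' l).mul (C14_n0_eL C (n 1 0 / A0))
    rwa [add_zero, ep] at this
  · have := (C14_eX C (n 0 1 / A0)).mul (C14_conj C ha hε l)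
    rwa [zero_add] at this
  · rw [← phiS_eH C]
    calc phiS C l * (v * phiS C m * C.UC α 0 c d ε f) * (phiS C l)⁻¹
        = phiS C l * v * (phiS C l)⁻¹ * (phiS C l * phiS C m * (phiS C l)⁻¹) *
            (phiS C l * C.UC α 0 c d ε f * (phiS C l)⁻¹) := by group
      _ = _ := by
        rw [← map_inv, ← map_mul (phiS C) l m, ← map_mul (phiS C) (l * m), ← hn]
        conv_lhs => arg 1; arg 2; rw [ldu C n e00, map_mul, map_mul]
        group

/-- The coordinate of a bit. -/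
def bitK (K : Type*) [Zero K] [One K] (b : Bool) : K := if b then 1 else 0

theorem bit_fix (b : Bool) : C.φ (bitK K b) = bitK K b := by cases b <;> simp [bitK]

theorem bit_sq (b : Bool) : bitK K b * bitK K b = bitK K b := by cases b <;> simp [bitK]

theorem bit_of_fix {x : K} (h : C.φ x = x) : ∃ b, x = bitK K b := by
  rw [C.hφ] at h
  rcases mul_eq_zero.mp (show x * (x - 1) = 0 by linear_combination h) with e | e
  · exact ⟨false, by simp [bitK, e]⟩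
  · exact ⟨true, by simp [bitK, sub_eq_zero.mp e]⟩

theorem bp_X (r : ℕ) (b : Bool) : bp (X r 1) b = X r (bitK K b) := by
  cases b <;> simp [bp, bitK, good_D4.full.x_zero]

theorem X_long_mem : ∀ r ∈ ([14, 22, 23, 9, 1, 0] : List ℕ), X r 1 ∈ C.Z.G1 := by
  have h14 : X 14 1 ∈ C.Z.G1 := by
    have e := (phiL_gen C 1).1
    push_cast at e
    rw [← e]
    exact phiL_mem C _
  have h9 : X 9 1 ∈ C.Z.G1 := by
    have e := (phiL_gen C 1).2
    push_cast at e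
    rw [← e]
    exact phiL_mem C _
  have hn : nS C ∈ C.Z.G1 := phiS_mem C _
  have h22 : X 22 1 ∈ C.Z.G1 := by
    rw [← nS_X C (r := 14) (r' := 22) (by decide) 1]
    exact mul_mem (mul_mem hn h14) (inv_mem hn)
  have h1 : X 1 1 ∈ C.Z.G1 := by
    rw [← nS_X C (r := 9) (r' := 1) (by decide) 1]
    exact mul_mem (mul_mem hn h9) (inv_mem hn)
  have h23 : X 23 1 ∈ C.Z.G1 := by
    rw [show X 23 1 = (X 22 1 * X 14 1)⁻¹ * (X 14 1 * X 22 1) by rw [(longRel C).x12]; group]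
    exact mul_mem (inv_mem (mul_mem h22 h14)) (mul_mem h14 h22)
  have h0 : X 0 1 ∈ C.Z.G1 := by
    rw [show X 0 1 = (X 1 1 * X 9 1)⁻¹ * (X 9 1 * X 1 1) by rw [(longRel C).y12]; group]
    exact mul_mem (inv_mem (mul_mem h1 h9)) (mul_mem h9 h1)
  intro r hr
  simp only [List.mem_cons, List.not_mem_nil, or_false] at hr
  rcases hr with rfl | rfl | rfl | rfl | rfl | rfl <;> assumption

theorem tor_long_comm (lam : Kˣ) :
    ∀ r ∈ ([14, 22, 23, 9, 1, 0] : List ℕ), ∀ u, Commute (tor 2 lam 1) (X r u) := by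
  have hA7 : lam ^ 7 = 1 := Units.ext (by
    rw [Units.val_pow_eq_pow_val]; exact pow7 (card8 C) lam.ne_zero)
  have h14 : D4Data.tab.chi (F := K) 14 (tc 2 lam (1 : Kˣ)) = 1 := by
    rw [show (14 : ℕ) = chevD4.simple ((1 : Fin chevD4.rank) : ℕ) by decide +kernel,
      (chi_tc (q := 2) lam 1).1, chiL_one C]
  have h22 : D4Data.tab.chi (F := K) 22 (tc 2 lam (1 : Kˣ)) = 1 ∧
      D4Data.tab.chi (F := K) 23 (tc 2 lam (1 : Kˣ)) = 1 := by
    rw [chi_pos (e := ![1, -1, 1, 1]) (by decide), chi_pos (e := ![0, 1, 0, 0]) (by decide)]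
    refine ⟨?_, by simp⟩
    simp only [Matrix.cons_val_zero, Matrix.cons_val_one, Matrix.cons_val, _root_.zpow_one,
      _root_.one_zpow, mul_one]
    rw [← hA7, ← pow_mul, ← pow_succ', ← pow_add]
  intro r hr u
  have hlt : r < 24 := by
    simp only [List.mem_cons, List.not_mem_nil, or_false] at hr
    omega
  have := good_D4.full.hT_conj (F := K) hlt (tc 2 lam 1) u
  have hch : D4Data.tab.chi (F := K) r (tc 2 lam (1 : Kˣ)) = 1 := by
    simp only [List.mem_cons, List.not_mem_nil, or_false] at hr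
    rcases hr with rfl | rfl | rfl | rfl | rfl | rfl
    · exact h14
    · exact h22.1
    · exact h22.2
    · rw [show (9 : ℕ) = negR chevD4 14 from negLong.1.symm, good_D4.chi_negR (by decide), h14,
        inv_one]
    · rw [show (1 : ℕ) = negR chevD4 22 from negLong.2.1.symm, good_D4.chi_negR (by decide), h22.1,
        inv_one]
    · rw [show (0 : ℕ) = negR chevD4 23 from negLong.2.2.1.symm, good_D4.chi_negR (by decide),
        h22.2, inv_one]
  rw [hch, Units.val_one, one_mul] at this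
  exact mul_inv_eq_iff_eq_mul.mp this

theorem bits_radT (a b c : Bool) :
    X 14 (bitK K a) * (X 22 (bitK K b) * X 23 (bitK K c)) =
        C.UC (bitK K a) 0 0 0 (bitK K b) (bitK K c) ∧
      C.UC (bitK K a) 0 0 0 (bitK K b) (bitK K c) ∈ C.Z.radT (JS C) := by
  have e : X 14 (bitK K a) * (X 22 (bitK K b) * X 23 (bitK K c)) =
      C.UC (bitK K a) 0 0 0 (bitK K b) (bitK K c) := by
    simp [D4Tw.Ctx.UC, D4Tw.P12, good_D4.full.x_zero]
  refine ⟨e, ?_, ?_⟩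
  · exact (Subgroup.mem_inf.mp (C.UC_mem_fix (bit_fix C a) (bit_fix C b) (bit_fix C c) 0 0 0)).1
  · rw [good_D4.rad_eq, ← e]
    have hx : ∀ r ∈ ([14, 22, 23] : List ℕ), ∀ t : K, X r t ∈ good_D4.US K
        {r | IsPos chevD4 r ∧
          ¬ D4Data.tab.InJ (Fin.val '' {i | i ∈ C.Z.orb (JS C)}) r} := by
      intro r hr t
      obtain ⟨h1, h2, h3⟩ := corLong.1 r hr
      refine good_D4.x_mem_US (show r ∈ {r | IsPos chevD4 r ∧
          ¬ D4Data.tab.InJ (Fin.val '' {i | i ∈ C.Z.orb (JS C)}) r} from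
        ⟨⟨h1, h2⟩, fun h => h3 (h.2 (1 : Fin chevD4.rank) ?_)⟩) t
      rintro ⟨i, hi, e⟩
      exact corLong.2 i hi e
    exact mul_mem (hx 14 (by decide) _) (mul_mem (hx 22 (by decide) _) (hx 23 (by decide) _))

theorem fine_split {A : Kˣ} (hA : ((A * A : Kˣ) : K) ≠ 1) {lam : Kˣ} (hl : (lam : K) ≠ 1) :
    ∀ a b c d e f : Bool, Fine C A
      (tor 2 lam 1 * bword (X 14 1) (X 22 1) (X 23 1) (X 9 1) (X 1 1) (X 0 1) a b c d e f) := by
  have hcl : Subgroup.closure ({X 14 1, X 22 1, X 23 1, X 9 1, X 1 1, X 0 1} :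
      Set (GL chevD4.Idx K)) ≤ C.Z.G1 ⊓ Subgroup.centralizer {tor 2 lam (1 : Kˣ)} := by
    rw [Subgroup.closure_le]
    intro x hx
    simp only [Set.mem_insert_iff, Set.mem_singleton_iff] at hx
    obtain ⟨r, hr, rfl⟩ : ∃ r ∈ ([14, 22, 23, 9, 1, 0] : List ℕ), x = X r 1 := by
      rcases hx with h | h | h | h | h | h
      exacts [⟨14, by simp, h⟩, ⟨22, by simp, h⟩, ⟨23, by simp, h⟩, ⟨9, by simp, h⟩,
        ⟨1, by simp, h⟩, ⟨0, by simp, h⟩]
    exact ⟨X_long_mem C r hr,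
      Subgroup.mem_centralizer_singleton_iff.mpr (tor_long_comm C lam r hr 1).symm.eq⟩
  refine (longRel C).word_cases (P := fun s => Fine C A (tor 2 lam 1 * s)) ?_ ?_
  · intro y hy g h
    obtain ⟨h1, h2⟩ := hcl hy
    have hc := Subgroup.mem_centralizer_singleton_iff.mp h2
    refine Fine.of_conj C h1 ?_
    rwa [show y * (tor 2 lam 1 * g) * y⁻¹ = tor 2 lam 1 * (y * g * y⁻¹) by
      rw [← mul_assoc, hc]; group]
  · intro a b c d e f heven
    obtain ⟨eu, hu⟩ := bits_radT C d e f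
    obtain ⟨ev0, hv0⟩ := bits_radT C a b c
    set v : GL chevD4.Idx K := X 9 (bitK K a) * (X 1 (bitK K b) * X 0 (bitK K c)) with hvd
    have ev : (n0 C)⁻¹ * v * n0 C = C.UC (bitK K a) 0 0 0 (bitK K b) (bitK K c) := by
      rw [← ev0, hvd]
      calc (n0 C)⁻¹ * (X 9 (bitK K a) * (X 1 (bitK K b) * X 0 (bitK K c))) * n0 C
          = ((n0 C)⁻¹ * X 9 (bitK K a) * n0 C) * (((n0 C)⁻¹ * X 1 (bitK K b) * n0 C) *
              ((n0 C)⁻¹ * X 0 (bitK K c) * n0 C)) := by group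
        _ = _ := by
          rw [n0_X' C (by norm_num), n0_X' C (by norm_num), n0_X' C (by norm_num), negLong'.1,
            negLong'.2.1, negLong'.2.2]
    have hv : v ∈ C.Z.radV (L C) (JS C) := by
      rw [C.Z.mem_radV, show C.Z.nT (L C) = n0 C from rfl, ev]
      exact hv0
    have hcv : Commute (tor 2 lam 1) v :=
      (tor_long_comm C lam 9 (by simp) _).mul_right
        ((tor_long_comm C lam 1 (by simp) _).mul_right (tor_long_comm C lam 0 (by simp) _))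
    have hm : ∀ m : SL(2, K), m = RankOne.eH lam → Mv ((A * A : Kˣ) : K) (bitK K d) 0 0 (bitK K e)
        (bitK K a) 0 0 (bitK K b) m := by
      intro m hm
      by_contra hno
      obtain ⟨-, -, -, -, hsum⟩ := split (card8 C) (bit_sq C d) (bit_sq C e) (bit_sq C a)
        (bit_sq C b) (A * A).ne_zero hA m lam hl hm hno
      revert heven
      cases a <;> cases b <;> cases d <;> cases e <;>
        simp [evenB, bitK, add_self' C] at hsum ⊢
    have := fine_of_Mv C hv hu ev (bit_fix C e) (bit_fix C b) _ (hm _ rfl)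
    rw [phiS_eH, ← eu] at this
    show Fine C A (tor 2 lam 1 * bword _ _ _ _ _ _ a b c d e f)
    rw [bword, bp_X C, bp_X C, bp_X C, bp_X C, bp_X C, bp_X C, ← hvd, ← mul_assoc, hcv.eq]
    exact this

theorem fine_all {A : Kˣ} (hA : ((A * A : Kˣ) : K) ≠ 1) {g : GL chevD4.Idx K} (hg : g ∈ C.Z.G1) :
    Fine C A g := by
  classical
  obtain ⟨A', B, hB, hc⟩ := exists_cell C hg
  obtain rfl : B = 1 := mul_eq_left.mp (by rw [← pow_two]; exact hB)
  obtain ⟨w, e, y, hy, v, hv, a, ha, eg⟩ := exists_splitS C hc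
  set m : SL(2, K) := eL w * RankOne.eH A' * RankOne.eX e with hm
  refine Fine.of_conj C hy ?_
  rw [eg, show v * phiS C (eL w) * tor 2 A' 1 * (phiS C (RankOne.eX e) * a) = v * phiS C m * a by
    rw [hm, map_mul, map_mul, phiS_eH]; group]
  have h8 := card8 C
  have hτ0 : ((A * A : Kˣ) : K) ≠ 0 := (A * A).ne_zero
  have hsq : ∀ {x : K}, C.φ x = x → x * x = x := fun {x} h => by
    rw [C.hφ] at h; rw [← pow_two]; exact h
  -- put the matrix in normal form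
  rcases normal_form h8 m with hell | ⟨l, hl⟩
  · obtain ⟨α, c, d, ε, f, hα, hε, hf, rfl⟩ := radT_JS_coord C ha
    obtain ⟨α', c', d', ε', f', hα', hε', hf', ev⟩ := radT_JS_coord C (C.Z.mem_radV.mp hv)
    exact fine_of_Mv C hv ha ev hε hε' m
      (ell h8 (hsq hα) (hsq hε) (hsq hα') (hsq hε') m hell)
  refine Fine.of_conj C (phiS_mem C l) ?_
  rw [show phiS C l * (v * phiS C m * a) * (phiS C l)⁻¹ = phiS C l * v * (phiS C l)⁻¹ *
      phiS C (l * m * l⁻¹) * (phiS C l * a * (phiS C l)⁻¹) by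
    rw [map_mul (phiS C) (l * m), map_mul (phiS C) l m, map_inv]; group]
  have hv' := phiS_conj_radV C l hv
  have ha' := phiS_conj_radT C l ha
  set v1 := phiS C l * v * (phiS C l)⁻¹
  set a1 := phiS C l * a * (phiS C l)⁻¹
  obtain ⟨α, c, d, ε, f, hα, hε, hf, ea⟩ := radT_JS_coord C ha'
  obtain ⟨α', c', d', ε', f', hα', hε', hf', ev⟩ := radT_JS_coord C (C.Z.mem_radV.mp hv')
  rw [ea] at ha' ⊢
  by_cases hMv : Mv ((A * A : Kˣ) : K) α c d ε α' c' d' ε' (l * m * l⁻¹)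
  · exact fine_of_Mv C hv' ha' ev hε hε' _ hMv
  rcases hl with ⟨w', hw'⟩ | ⟨lam, hlam, hlm⟩
  · exact absurd (unip h8 (hsq hα) (hsq hε) (hsq hα') (hsq hε') hτ0 hA _ w' hw') hMv
  obtain ⟨rfl, rfl, rfl, rfl, -⟩ :=
    split h8 (hsq hα) (hsq hε) (hsq hα') (hsq hε') hτ0 hA _ lam hlam hlm hMv
  obtain ⟨b1, rfl⟩ := bit_of_fix C hα
  obtain ⟨b2, rfl⟩ := bit_of_fix C hε
  obtain ⟨b3, rfl⟩ := bit_of_fix C hf
  obtain ⟨b4, rfl⟩ := bit_of_fix C hα'
  obtain ⟨b5, rfl⟩ := bit_of_fix C hε'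
  obtain ⟨b6, rfl⟩ := bit_of_fix C hf'
  have hv1 : v1 = X 9 (bitK K b4) * (X 1 (bitK K b5) * X 0 (bitK K b6)) := by
    have e1 : v1 = n0 C * ((n0 C)⁻¹ * v1 * n0 C) * (n0 C)⁻¹ := by group
    rw [e1, show (n0 C)⁻¹ * v1 * n0 C = _ from ev, ← (bits_radT C b4 b5 b6).1]
    calc n0 C * (X 14 (bitK K b4) * (X 22 (bitK K b5) * X 23 (bitK K b6))) * (n0 C)⁻¹
        = (n0 C * X 14 (bitK K b4) * (n0 C)⁻¹) * ((n0 C * X 22 (bitK K b5) * (n0 C)⁻¹) *
            (n0 C * X 23 (bitK K b6) * (n0 C)⁻¹)) := by group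
      _ = _ := by
        rw [n0_X C (by norm_num), n0_X C (by norm_num), n0_X C (by norm_num), negLong.1,
          negLong.2.1, negLong.2.2.1]
  have hcv : Commute (tor 2 lam 1) v1 := by
    rw [hv1]
    exact (tor_long_comm C lam 9 (by simp) _).mul_right
      ((tor_long_comm C lam 1 (by simp) _).mul_right (tor_long_comm C lam 0 (by simp) _))
  rw [hlm, phiS_eH, ← hcv.eq, ← (bits_radT C b1 b2 b3).1, hv1, mul_assoc]
  have := fine_split C hA hlam b4 b5 b6 b1 b2 b3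
  rwa [bword, bp_X C, bp_X C, bp_X C, bp_X C, bp_X C, bp_X C] at this

theorem two : ∃ x ∈ C.Z.G1, x ^ 21 = 1 ∧ ∀ g ∈ C.Z.G1, g ≠ 1 → Cover C x g := by
  classical
  haveI : Nontrivial Kˣ := by
    rw [← Fintype.one_lt_card_iff_nontrivial, Fintype.card_units, card8 C]
    norm_num
  obtain ⟨A, hA⟩ := exists_ne (1 : Kˣ)
  have h7 : A ^ 7 = 1 := Units.ext (by
    rw [Units.val_pow_eq_pow_val]; exact pow7 (card8 C) A.ne_zero)
  have hτ : ((A * A : Kˣ) : K) ≠ 1 := fun h => hA (by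
    have h' : A * A = 1 := Units.ext (by rw [h, Units.val_one])
    calc A = (A * A) ^ 3 * A := by rw [h', one_pow, one_mul]
      _ = A ^ 7 := by rw [← pow_two, ← pow_mul, ← pow_succ]
      _ = 1 := h7)
  refine ⟨EL C (W C) A, EL_mem C _ _, ?_, fun g hg _ => (fine_all C hτ hg).cover C hA⟩
  have hpow : ∀ k : ℕ, EL C (W C) A ^ k = EL C (W C ^ k) (A ^ k) := by
    intro k
    induction k with
    | zero => rw [pow_zero, pow_zero, pow_zero, EL, map_one, tor_one, one_mul]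
    | succ k ih => rw [pow_succ, ih, EL_mul, ← pow_succ, ← pow_succ]
  have hW : W C ^ 3 = 1 := by
    rw [pow_succ, pow_two, (W_facts C).1, inv_mul_cancel]
  rw [hpow, show (21 : ℕ) = 3 * 7 from rfl, pow_mul, hW, one_pow, mul_comm 3 7, pow_mul, h7,
    one_pow, EL, map_one, tor_one, one_mul]

end CfsgLib.OreD4
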